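import Cfsg.Agent.J4Classes.Count
import Cfsg.Agent.S5577

/-!
The classes of a group of Janko-four type whose elements have largest prime 23, 29, 31, 37 or 43.
-/

set_option autoImplicit false
set_option linter.style.haveILetI false
set_option linter.unusedSectionVars false

namespace CfsgLib.J4Classes

open Subgroup

variable {G : Type*} [Group G] [Finite G]

/-- A self-centralising Sylow subgroup of order `p`. -/
theorem top_self {p d k : ℕ} (hp : p.Prime) (h1 : (Nat.card G).factorization p = 1) (hk : k * d = p - 1)
    (h : ∀ U : Sylow p G, centralizer ((U : Subgroup G) : Set G) = (U : Subgroup G) ∧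
      Nat.card ↥(normalizer ((U : Subgroup G) : Set G)) = p * d) :
    cl G (Top p) = k := by
  haveI := Fact.mk hp
  obtain ⟨U⟩ := (inferInstance : Nonempty (Sylow p G))
  have hU : ∀ V : Sylow p G, Nat.card (V : Subgroup G) = p := fun V => by
    rw [V.card_eq_multiplicity, h1, pow_one]
  have hexp : ∀ g : G, ¬ p ^ 2 ∣ orderOf g := fun g hg => by
    have := (hp.pow_dvd_iff_le_factorization Nat.card_pos.ne').1 (hg.trans (orderOf_dvd_natCard g))
    omega
  have hc : ∀ g : G, orderOf g = p → cl ↥(centralizer ({g} : Set G)) (Small p) = 1 := by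
    intro g hg
    obtain ⟨T, hT⟩ := (IsPGroup.of_card (p := p) (n := 1) (G := zpowers g)
      (by rw [Nat.card_zpowers, hg, pow_one])).exists_le_sylow
    have hTg : zpowers g = (T : Subgroup G) :=
      Subgroup.eq_of_le_of_card_ge hT (by rw [hU, Nat.card_zpowers, hg])
    refine cl_one fun y => ⟨fun hy => ?_, fun hy q hq hqd => ?_⟩
    · have hyT : (y : G) ∈ (T : Subgroup G) := by
        rw [← (h T).1]
        refine mem_centralizer_iff.2 fun t ht => ?_
        rw [SetLike.mem_coe, ← hTg] at ht
        obtain ⟨i, rfl⟩ := mem_zpowers_iff.1 ht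
        exact ((show Commute (y : G) g from mem_centralizer_singleton_iff.1 y.2).zpow_right i).symm.eq
      have hd : orderOf y ∣ p := by
        rw [← Subgroup.orderOf_coe, ← hU T]
        exact Subgroup.orderOf_dvd_natCard _ hyT
      rcases hp.eq_one_or_self_of_dvd _ hd with e | e
      · exact orderOf_eq_one_iff.1 e
      · exact absurd (hy p hp (dvd_of_eq e.symm)) (lt_irrefl p)
    · rw [hy, orderOf_one] at hqd
      exact absurd (Nat.le_of_dvd one_pos hqd) (not_le.2 hq.one_lt)
  have hn := cl_prime hp U (hU U) (d := d) (by rw [(h U).2, (h U).1, hU U, mul_comm])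
  rw [cl_top_const hp hexp hc, mul_one]
  rw [← hk] at hn
  have hd : 0 < d := by
    rcases Nat.eq_zero_or_pos d with rfl | hd
    · have := Nat.card_pos (α := ↥(normalizer ((U : Subgroup G) : Set G)))
      rw [(h U).2, mul_zero] at this
      exact absurd this (lt_irrefl 0)
    · exact hd
  exact Nat.eq_of_mul_eq_mul_right hd hn

theorem factorization_order {p m : ℕ} (hp : p.Prime) (hcard : Nat.card G = p * m) (hm : ¬ p ∣ m) :
    (Nat.card G).factorization p = 1 := by
  rw [hcard, Nat.factorization_mul hp.ne_zero (fun e => hm (by rw [e]; exact dvd_zero p)), Finsupp.add_apply,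
    hp.factorization_self, Nat.factorization_eq_zero_of_not_dvd hm, add_zero]

variable [IsSimpleGroup G]

/-- The five large primes. -/
theorem top_big (hG : ¬ IsMulCommutative G) (hJ : Cfsg.IsOfJankoFourType G) :
    cl G (Top 23) = 1 ∧ cl G (Top 29) = 1 ∧ cl G (Top 31) = 3 ∧ cl G (Top 37) = 3 ∧ cl G (Top 43) = 3 := by
  obtain ⟨h23, h29, h31, h37, h43⟩ := Cfsg.Agent.S5577.result hG hJ
  obtain ⟨z, hz⟩ := hJ
  have hc := CfsgLib.J4Order.order_of_type (z := z) hz
  exact ⟨top_self (d := 22) (by norm_num)
      (factorization_order (m := 3772850915046850560) (by norm_num) (hc.trans (by norm_num)) (by norm_num))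
      (by norm_num) h23,
    top_self (d := 28) (by norm_num)
      (factorization_order (m := 2992261070554398720) (by norm_num) (hc.trans (by norm_num)) (by norm_num))
      (by norm_num) h29,
    top_self (d := 10) (by norm_num)
      (factorization_order (m := 2799211969228308480) (by norm_num) (hc.trans (by norm_num)) (by norm_num))
      (by norm_num) h31,
    top_self (d := 12) (by norm_num)
      (factorization_order (m := 2345285703948042240) (by norm_num) (hc.trans (by norm_num)) (by norm_num))
      (by norm_num) h37,
    top_self (d := 14) (by norm_num)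
      (factorization_order (m := 2018036535955292160) (by norm_num) (hc.trans (by norm_num)) (by norm_num))
      (by norm_num) h43⟩

end CfsgLib.J4Classes
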