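import Mathlib.GroupTheory.Sylow
import Mathlib.GroupTheory.SpecificGroups.Cyclic
import Mathlib.Data.Nat.Factorization.Basic
import Mathlib.Algebra.BigOperators.Group.Finset.Basic
import Mathlib.GroupTheory.Perm.Basic
import Mathlib.Algebra.Group.ConjFinite
import Mathlib.Tactic

/-!
Counting conjugacy classes through the largest prime dividing the order of an element: the classes whose
elements have `p`-part a given element `s` of order `p` correspond to the classes of the centraliser of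
`s` of elements involving only smaller primes.
-/

set_option autoImplicit false
set_option linter.style.haveILetI false
set_option linter.unusedSectionVars false

namespace CfsgLib.J4Classes

open Subgroup

/-- The number of classes meeting a set. -/
noncomputable def cl (G : Type*) [Monoid G] (P : G → Prop) : ℕ :=
  Nat.card {c : ConjClasses G // ∃ g, ConjClasses.mk g = c ∧ P g}

/-- All primes dividing the order are smaller than `p`. -/
def Small {G : Type*} [Monoid G] (p : ℕ) (g : G) : Prop := ∀ q : ℕ, q.Prime → q ∣ orderOf g → q < p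

/-- The largest prime dividing the order is `p`. -/
def Top {G : Type*} [Monoid G] (p : ℕ) (g : G) : Prop :=
  p ∣ orderOf g ∧ ∀ q : ℕ, q.Prime → q ∣ orderOf g → q ≤ p

/-- A property invariant under conjugation. -/
def Inv {G : Type*} [Monoid G] (P : G → Prop) : Prop := ∀ g h : G, IsConj g h → P g → P h

section Basic

variable {G : Type*} [Group G]

theorem orderOf_of_isConj {g h : G} (hc : IsConj g h) : orderOf h = orderOf g := by
  obtain ⟨c, rfl⟩ := isConj_iff.1 hc
  exact MulEquiv.orderOf_eq (MulAut.conj c) g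

theorem inv_order (R : ℕ → Prop) : Inv (fun g : G => R (orderOf g)) :=
  fun g h hc hg => by simpa only [orderOf_of_isConj hc] using hg

theorem inv_top (p : ℕ) : Inv (Top (G := G) p) := inv_order fun n => p ∣ n ∧ ∀ q : ℕ, q.Prime → q ∣ n → q ≤ p

theorem inv_small (p : ℕ) : Inv (Small (G := G) p) := inv_order fun n => ∀ q : ℕ, q.Prime → q ∣ n → q < p

theorem cl_all : cl G (fun _ => True) = Nat.card (ConjClasses G) :=
  Nat.card_congr (Equiv.subtypeUnivEquiv fun c => ⟨c.exists_rep.choose, c.exists_rep.choose_spec, trivial⟩)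

theorem cl_congr {P Q : G → Prop} (h : ∀ g, P g ↔ Q g) : cl G P = cl G Q := by
  rw [show P = Q from funext fun g => propext (h g)]

theorem cl_or [Finite G] {P Q : G → Prop} (hP : Inv P) (hd : ∀ g, P g → Q g → False) :
    cl G (fun g => P g ∨ Q g) = cl G P + cl G Q := by
  classical
  have e : ∀ c : ConjClasses G, (∃ g, ConjClasses.mk g = c ∧ (P g ∨ Q g)) ↔
      (∃ g, ConjClasses.mk g = c ∧ P g) ∨ ∃ g, ConjClasses.mk g = c ∧ Q g :=
    fun c => by simp only [and_or_left, exists_or]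
  have hdis : Disjoint (fun c : ConjClasses G => ∃ g, ConjClasses.mk g = c ∧ P g)
      (fun c => ∃ g, ConjClasses.mk g = c ∧ Q g) := by
    rw [Pi.disjoint_iff]
    intro c
    rw [Prop.disjoint_iff]
    rw [Classical.not_and_iff_not_or_not, ← not_and_or]
    rintro ⟨⟨g, rfl, hg⟩, ⟨h, hh, hh'⟩⟩
    exact hd h (hP g h (ConjClasses.mk_eq_mk_iff_isConj.1 hh.symm) hg) hh'
  unfold cl
  rw [Nat.card_congr ((Equiv.subtypeEquivRight e).trans (subtypeOrEquiv _ _ hdis)), Nat.card_sum]

end Basic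

section Map

variable {ι : Type*} {A : ι → Type*} {B : Type*} [∀ i, Group (A i)] [Group B]

/-- Classes of several groups collected in one. -/
theorem cl_sigma [Fintype ι] [∀ i, Finite (A i)] {P : ∀ i, A i → Prop} {Q : B → Prop} (f : ∀ i, A i → B)
    (hf : ∀ i a, P i a → Q (f i a))
    (hcong : ∀ i a a', P i a → IsConj a a' → IsConj (f i a) (f i a'))
    (hinj : ∀ i j a a', P i a → P j a' → IsConj (f i a) (f j a') →
      ∃ e : i = j, IsConj (e ▸ a) a')
    (hsurj : ∀ b, Q b → ∃ i a, P i a ∧ IsConj b (f i a)) :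
    cl B Q = ∑ i, cl (A i) (P i) := by
  classical
  unfold cl
  rw [← Nat.card_sigma]
  let F : (Σ i, {c : ConjClasses (A i) // ∃ a, ConjClasses.mk a = c ∧ P i a}) →
      {c : ConjClasses B // ∃ b, ConjClasses.mk b = c ∧ Q b} :=
    fun x => ⟨ConjClasses.mk (f x.1 x.2.2.choose), _, rfl, hf _ _ x.2.2.choose_spec.2⟩
  refine (Nat.card_congr (Equiv.ofBijective F ⟨?_, ?_⟩)).symm
  · rintro ⟨i, c⟩ ⟨j, c'⟩ h
    obtain ⟨rfl, hc⟩ := hinj i j _ _ c.2.choose_spec.2 c'.2.choose_spec.2
      (ConjClasses.mk_eq_mk_iff_isConj.1 (congrArg Subtype.val h))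
    obtain rfl : c = c' := Subtype.ext (by
      rw [← c.2.choose_spec.1, ← c'.2.choose_spec.1]
      exact ConjClasses.mk_eq_mk_iff_isConj.2 hc)
    rfl
  · rintro ⟨c, b, rfl, hb⟩
    obtain ⟨i, a, ha, hba⟩ := hsurj b hb
    let x : {c : ConjClasses (A i) // ∃ a, ConjClasses.mk a = c ∧ P i a} := ⟨ConjClasses.mk a, a, rfl, ha⟩
    refine ⟨⟨i, x⟩, Subtype.ext (ConjClasses.mk_eq_mk_iff_isConj.2 ?_)⟩
    exact (hcong i _ a x.2.choose_spec.2 (ConjClasses.mk_eq_mk_iff_isConj.1 x.2.choose_spec.1)).trans hba.symm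

end Map

/-- Classes carried along a map. -/
theorem cl_map {A B : Type*} [Group A] [Group B] [Finite A] {P : A → Prop} {Q : B → Prop} (f : A → B)
    (hf : ∀ a, P a → Q (f a)) (hcong : ∀ a a', P a → IsConj a a' → IsConj (f a) (f a'))
    (hinj : ∀ a a', P a → P a' → IsConj (f a) (f a') → IsConj a a')
    (hsurj : ∀ b, Q b → ∃ a, P a ∧ IsConj b (f a)) : cl B Q = cl A P := by
  rw [cl_sigma (ι := Unit) (A := fun _ => A) (P := fun _ => P) (fun _ => f) (fun _ => hf) (fun _ => hcong)
    (fun i j a a' h h' e => ⟨rfl, hinj a a' h h' e⟩) (fun b hb => ⟨(), hsurj b hb⟩)]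
  simp

/-- Classes in isomorphic groups. -/
theorem cl_equiv {A B : Type*} [Group A] [Group B] [Finite A] (e : A ≃* B) {P : A → Prop} {Q : B → Prop}
    (h : ∀ a, P a ↔ Q (e a)) : cl A P = cl B Q :=
  (cl_map e (fun a ha => (h a).1 ha) (fun _ _ _ hc => e.toMonoidHom.map_isConj hc)
    (fun a a' _ _ hc => by simpa using e.symm.toMonoidHom.map_isConj hc)
    (fun b hb => ⟨e.symm b, (h _).2 (by rwa [e.apply_symm_apply]), by rw [e.apply_symm_apply]⟩)).symm

section Subgroup

variable {C : Type*} [Group C] [Finite C]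

/-- Classes in a subgroup that together with the centre covers the group. -/
theorem cl_sub (J : Subgroup C) {P : C → Prop} (hJ : ∀ g, P g → g ∈ J)
    (hgen : ∀ g : C, ∃ j ∈ J, j⁻¹ * g ∈ Subgroup.center C) : cl C P = cl J fun j => P j := by
  refine cl_map (fun j : J => (j : C)) (fun _ h => h) (fun a a' _ hc => J.subtype.map_isConj hc)
    (fun a a' _ _ hc => ?_) fun b hb => ⟨⟨b, hJ b hb⟩, hb, IsConj.refl b⟩
  obtain ⟨c, hc⟩ := isConj_iff.1 hc
  obtain ⟨j, hj, hz⟩ := hgen c
  refine isConj_iff.2 ⟨⟨j, hj⟩, Subtype.ext ?_⟩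
  show j * a * j⁻¹ = (a' : C)
  rw [← hc]
  have := Subgroup.mem_center_iff.1 hz (a : C)
  calc j * a * j⁻¹ = j * ((j⁻¹ * c) * a * (j⁻¹ * c)⁻¹) * j⁻¹ := by rw [← this, mul_inv_cancel_right]
    _ = c * a * c⁻¹ := by group

/-- Classes listed by representatives. -/
theorem cl_reps {ι : Type*} {P : C → Prop} (r : ι → C) (hr : ∀ i, P (r i))
    (hne : ∀ i j, IsConj (r i) (r j) → i = j) (hcov : ∀ g, P g → ∃ i, IsConj g (r i)) :
    cl C P = Nat.card ι := by
  refine (Nat.card_congr (Equiv.ofBijective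
    (fun i => (⟨ConjClasses.mk (r i), r i, rfl, hr i⟩ : {c : ConjClasses C // ∃ g, ConjClasses.mk g = c ∧ P g}))
    ⟨fun i j h => hne i j (ConjClasses.mk_eq_mk_iff_isConj.1 (congrArg Subtype.val h)), ?_⟩)).symm
  rintro ⟨c, g, rfl, hg⟩
  obtain ⟨i, hi⟩ := hcov g hg
  exact ⟨i, Subtype.ext (ConjClasses.mk_eq_mk_iff_isConj.2 hi.symm)⟩

/-- Only the identity. -/
theorem cl_one {P : C → Prop} (h : ∀ g, P g ↔ g = 1) : cl C P = 1 := by
  rw [cl_congr h]
  exact (cl_reps (ι := Unit) (P := fun g : C => g = 1) (fun _ => (1 : C)) (fun _ => rfl) (fun _ _ _ => rfl)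
    fun g hg => ⟨(), hg ▸ IsConj.refl g⟩).trans Nat.card_unique

end Subgroup

section Top

variable {G : Type*} [Group G] [Finite G]

theorem orderOf_subgroup {H : Subgroup G} (h : H) : orderOf (h : G) = orderOf h := Subgroup.orderOf_coe h

theorem small_coe {H : Subgroup G} (p : ℕ) (h : H) : Small p (h : G) ↔ Small p h := by
  unfold Small
  rw [Subgroup.orderOf_coe]

/-- An exponent extracting the `p`-part. -/
theorem exists_exponent {p : ℕ} (hp : p.Prime) :
    ∃ n : ℕ, n % p = 1 ∧ ∀ k : ℕ, k ∣ Nat.card G → ¬ p ∣ k → k ∣ n := by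
  set m := Nat.card G / p ^ (Nat.card G).factorization p
  have hco : p.Coprime m := Nat.coprime_ordCompl hp Nat.card_pos.ne'
  obtain ⟨n, hn1, hn0⟩ := Nat.chineseRemainder hco 1 0
  refine ⟨n, ?_, fun k hk hpk => ?_⟩
  · rw [hn1, Nat.mod_eq_of_lt hp.one_lt]
  · refine (?_ : k ∣ m).trans (Nat.modEq_zero_iff_dvd.1 hn0)
    refine Nat.Coprime.dvd_of_dvd_mul_left (m := p ^ (Nat.card G).factorization p) ?_ ?_
    · exact ((hp.coprime_iff_not_dvd.2 hpk).symm).pow_right _
    · rw [Nat.ordProj_mul_ordCompl_eq_self]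
      exact hk

/-- **Classes by the `p`-part.** -/
theorem cl_top {ι : Type*} [Fintype ι] {p : ℕ} (hp : p.Prime) (hexp : ∀ g : G, ¬ p ^ 2 ∣ orderOf g) (s : ι → G)
    (hs : ∀ i, orderOf (s i) = p) (hne : ∀ i j, IsConj (s i) (s j) → i = j)
    (hcov : ∀ g : G, orderOf g = p → ∃ i, IsConj g (s i)) :
    cl G (Top p) = ∑ i, cl ↥(centralizer ({s i} : Set G)) (Small p) := by
  obtain ⟨n, hn1, hn⟩ := exists_exponent (G := G) hp
  have hcomm : ∀ i (a : ↥(centralizer ({s i} : Set G))), Commute (s i) (a : G) := fun i a =>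
    (mem_centralizer_singleton_iff.1 a.2).symm
  have hnd : ∀ i (a : ↥(centralizer ({s i} : Set G))), Small p a → ¬ p ∣ orderOf (a : G) := fun i a ha h =>
    lt_irrefl p (ha p hp (by rwa [← Subgroup.orderOf_coe]))
  have hpow : ∀ i (a : ↥(centralizer ({s i} : Set G))), Small p a → (s i * a) ^ n = s i := fun i a ha => by
    rw [(hcomm i a).mul_pow, orderOf_dvd_iff_pow_eq_one.1 (hn _ (orderOf_dvd_natCard _) (hnd i a ha)), mul_one,
      ← pow_mod_orderOf, hs, hn1, pow_one]
  refine cl_sigma (fun i a => s i * (a : G)) (fun i a ha => ?_) (fun i a a' _ hc => ?_)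
    (fun i j a a' ha ha' hc => ?_) (fun b hb => ?_)
  · have ho : orderOf (s i * (a : G)) = p * orderOf (a : G) := by
      rw [(hcomm i a).orderOf_mul_eq_mul_orderOf_of_coprime, hs]
      rw [hs]
      exact hp.coprime_iff_not_dvd.2 (hnd i a ha)
    refine ⟨ho ▸ dvd_mul_right _ _, fun q hq hqd => ?_⟩
    rw [ho] at hqd
    rcases hq.dvd_mul.1 hqd with h | h
    · exact Nat.le_of_dvd hp.pos h
    · exact (((small_coe p a).2 ha) q hq h).le
  · obtain ⟨c, rfl⟩ := isConj_iff.1 hc
    refine isConj_iff.2 ⟨(c : G), ?_⟩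
    calc (c : G) * (s i * a) * (c : G)⁻¹ = ((c : G) * s i) * a * (c : G)⁻¹ := by group
      _ = s i * ((c : G) * a * (c : G)⁻¹) := by rw [mem_centralizer_singleton_iff.1 c.2]; group
  · obtain ⟨c, hc⟩ := isConj_iff.1 hc
    have h := congrArg (fun t => t ^ n) hc
    simp only [conj_pow, hpow i a ha, hpow j a' ha'] at h
    obtain rfl := hne i j (isConj_iff.2 ⟨c, h⟩)
    refine ⟨rfl, isConj_iff.2 ⟨⟨c, mem_centralizer_singleton_iff.2 (mul_inv_eq_iff_eq_mul.1 h)⟩, Subtype.ext ?_⟩⟩
    show c * (a : G) * c⁻¹ = (a' : G)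
    refine mul_left_cancel (a := s i) ?_
    calc s i * (c * (a : G) * c⁻¹) = (c * s i * c⁻¹) * (c * (a : G) * c⁻¹) := by rw [h]
      _ = c * (s i * a) * c⁻¹ := by group
      _ = _ := hc
  · set o := orderOf b
    obtain ⟨k, hk⟩ := hb.1
    have hpk : ¬ p ∣ k := fun ⟨l, hl⟩ => hexp b ⟨l, by rw [hk, hl]; ring⟩
    have hkn : k ∣ n := hn k ((Dvd.intro_left p hk.symm).trans (orderOf_dvd_natCard b)) hpk
    have hpn : ¬ p ∣ n := fun h => by
      rw [Nat.mod_eq_zero_of_dvd h] at hn1
      exact zero_ne_one hn1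
    have hs' : orderOf (b ^ n) = p := by
      haveI := Fact.mk hp
      refine orderOf_eq_prime ?_ fun e => hpn ?_
      · rw [← pow_mul, ← orderOf_dvd_iff_pow_eq_one, show orderOf b = p * k from hk, mul_comm]
        exact mul_dvd_mul_right hkn p
      · exact (Dvd.intro k hk.symm).trans (orderOf_dvd_of_pow_eq_one e)
    obtain ⟨i, hi⟩ := hcov _ hs'
    obtain ⟨c, hc⟩ := isConj_iff.1 hi
    have hb' : Commute (b ^ n) (b * (b ^ n)⁻¹) :=
      ((Commute.refl b).pow_left n).mul_right (Commute.refl (b ^ n)).inv_right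
    have hy : (b * (b ^ n)⁻¹) ^ k = 1 := by
      rw [((Commute.refl b).pow_right n).inv_right.mul_pow, inv_pow, ← pow_mul, mul_inv_eq_one,
        pow_eq_pow_iff_modEq]
      show k % o = n * k % o
      rw [show o = p * k from hk]
      calc k % (p * k) = (1 % p) * k := by rw [← Nat.mul_mod_mul_right, one_mul]
        _ = (n % p) * k := by rw [hn1, Nat.mod_eq_of_lt hp.one_lt]
        _ = n * k % (p * k) := by rw [Nat.mul_mod_mul_right]
    have hmem : c * (b * (b ^ n)⁻¹) * c⁻¹ ∈ centralizer ({s i} : Set G) := mem_centralizer_singleton_iff.2 (by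
      rw [← hc]
      exact ((Commute.conj_iff c).2 hb').symm.eq)
    refine ⟨i, ⟨_, hmem⟩, (small_coe p _).1 fun q hq hqd => ?_, ?_⟩
    · rw [show orderOf (c * (b * (b ^ n)⁻¹) * c⁻¹) = orderOf (b * (b ^ n)⁻¹) from
        MulEquiv.orderOf_eq (MulAut.conj c) _] at hqd
      have hqk : q ∣ k := hqd.trans (orderOf_dvd_of_pow_eq_one hy)
      rcases (hb.2 q hq (hqk.trans (Dvd.intro_left p hk.symm))).eq_or_lt with rfl | h
      · exact absurd hqk hpk
      · exact h
    · refine isConj_iff.2 ⟨c, ?_⟩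
      show c * b * c⁻¹ = s i * (c * (b * (b ^ n)⁻¹) * c⁻¹)
      rw [← hc, _root_.conj_mul, hb'.eq, inv_mul_cancel_right]

/-- Elements of order `p` for a Sylow subgroup of order `p`: the classes times the index of the centraliser
in the normaliser make `p - 1`. -/
theorem cl_prime {p : ℕ} (hp : p.Prime) (U : Sylow p G) (hU : Nat.card (U : Subgroup G) = p)
    {d : ℕ} (hd : Nat.card ↥(normalizer ((U : Subgroup G) : Set G)) =
      d * Nat.card ↥(centralizer ((U : Subgroup G) : Set G))) :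
    cl G (fun g => orderOf g = p) * d = p - 1 := by
  classical
  haveI := Fact.mk hp
  set U0 : Subgroup G := (U : Subgroup G) with hU0
  set R := U0.normalizerMonoidHom.range with hR
  have hRc : Nat.card R = d := by
    have h := U0.normalizerMonoidHom.ker.card_mul_index
    rw [index_ker, Subgroup.normalizerMonoidHom_ker,
      Nat.card_congr (Subgroup.subgroupOfEquivOfLe (centralizer_le_normalizer _)).toEquiv, hd, mul_comm d] at h
    exact Nat.eq_of_mul_eq_mul_left Nat.card_pos h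
  have hgen : ∀ u : U0, u ≠ 1 → zpowers u = ⊤ := fun u hu => by
    refine Subgroup.eq_top_of_card_eq _ ?_
    rw [Nat.card_zpowers, hU]
    exact (hp.eq_one_or_self_of_dvd _ (hU ▸ orderOf_dvd_natCard u)).resolve_left
      fun e => hu (orderOf_eq_one_iff.1 e)
  have hord : ∀ u : U0, u ≠ 1 → orderOf (u : G) = p := fun u hu => by
    rw [Subgroup.orderOf_coe]
    exact (hp.eq_one_or_self_of_dvd _ (hU ▸ orderOf_dvd_natCard u)).resolve_left
      fun e => hu (orderOf_eq_one_iff.1 e)
  let f : {u : U0 // u ≠ 1} → {c : ConjClasses G // ∃ g, ConjClasses.mk g = c ∧ orderOf g = p} :=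
    fun u => ⟨ConjClasses.mk ((u.1 : U0) : G), _, rfl, hord u.1 u.2⟩
  have hcard : Nat.card {u : U0 // u ≠ 1} = p - 1 := by
    rw [← hU]
    haveI := Fintype.ofFinite U0
    rw [Nat.card_eq_fintype_card, Nat.card_eq_fintype_card, Fintype.card_subtype_compl,
      Fintype.card_subtype_eq]
  have hfib : ∀ c, Nat.card {u // f u = c} = d := by
    rintro ⟨_, g, rfl, hg⟩
    obtain ⟨T, hT⟩ := (IsPGroup.of_card (p := p) (n := 1) (G := zpowers g)
      (by rw [Nat.card_zpowers, hg, pow_one])).exists_le_sylow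
    obtain ⟨c, hc⟩ := MulAction.exists_smul_eq G T U
    have hmem : c * g * c⁻¹ ∈ U0 := by
      rw [hU0, ← hc]
      exact ⟨g, hT (mem_zpowers g), rfl⟩
    have hne : (⟨c * g * c⁻¹, hmem⟩ : U0) ≠ 1 := fun e => hp.one_lt.ne' (by
      rw [← hg, orderOf_eq_one_iff]
      exact conj_eq_one_iff.1 (congrArg Subtype.val e))
    set u0 : U0 := ⟨c * g * c⁻¹, hmem⟩ with hu0
    have hcg : ConjClasses.mk ((u0 : U0) : G) = ConjClasses.mk g :=
      ConjClasses.mk_eq_mk_iff_isConj.2 (isConj_iff.2 ⟨c, rfl⟩ : IsConj g (u0 : G)).symm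
    rw [← hRc]
    have hne' : ∀ α : R, (α : MulAut U0) u0 ≠ 1 := fun α e =>
      hne ((α : MulAut U0).injective (e.trans (map_one (α : MulAut U0)).symm))
    have hfix : ∀ α : R, f ⟨(α : MulAut U0) u0, hne' α⟩ = ⟨ConjClasses.mk g, g, rfl, hg⟩ := by
      rintro ⟨_, m, rfl⟩
      exact Subtype.ext ((ConjClasses.mk_eq_mk_iff_isConj.2
        (isConj_iff.2 ⟨(m : G), rfl⟩ : IsConj (u0 : G) _).symm).trans hcg)
    refine (Nat.card_congr (Equiv.ofBijective (fun α : R => (⟨⟨(α : MulAut U0) u0, hne' α⟩, hfix α⟩ :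
      {u // f u = ⟨ConjClasses.mk g, g, rfl, hg⟩})) ⟨?_, ?_⟩)).symm
    · intro α β h
      have h' : (α : MulAut U0) u0 = (β : MulAut U0) u0 := congrArg (fun x => x.1.1) h
      refine Subtype.ext (MulEquiv.ext fun w => ?_)
      obtain ⟨i, rfl⟩ := mem_zpowers_iff.1 ((hgen u0 hne).ge (mem_top w))
      rw [map_zpow, map_zpow, h']
    · rintro ⟨⟨u, hu⟩, hfu⟩
      have hcj : IsConj (u0 : G) (u : G) := ConjClasses.mk_eq_mk_iff_isConj.1
        (hcg.trans (congrArg Subtype.val hfu).symm)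
      obtain ⟨m, hm⟩ := isConj_iff.1 hcj
      have hmN : m ∈ normalizer (U0 : Set G) := by
        refine mem_normalizer_iff_map_conj_eq.2 (Subgroup.eq_of_le_of_card_ge ?_ ?_)
        · have e0 : U0 = (zpowers u0).map U0.subtype := by
            rw [hgen u0 hne, ← MonoidHom.range_eq_map, Subgroup.range_subtype]
          conv_lhs => rw [e0, Subgroup.map_map, MonoidHom.map_zpowers]
          exact zpowers_le.2 (show m * (u0 : G) * m⁻¹ ∈ U0 from hm ▸ u.2)
        · rw [Subgroup.card_map_of_injective (MulAut.conj m).injective]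
      exact ⟨⟨U0.normalizerMonoidHom ⟨m, hmN⟩, ⟨⟨m, hmN⟩, rfl⟩⟩,
        Subtype.ext (Subtype.ext (Subtype.ext hm))⟩
  haveI := Fintype.ofFinite {c : ConjClasses G // ∃ g, ConjClasses.mk g = c ∧ orderOf g = p}
  rw [← hcard, ← Nat.card_congr (Equiv.sigmaFiberEquiv f), Nat.card_sigma,
    Finset.sum_congr rfl (fun c _ => hfib c), Finset.sum_const, Finset.card_univ, smul_eq_mul, cl,
    Nat.card_eq_fintype_card]

/-- One prime with a given centraliser count for all elements of order `p`. -/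
theorem cl_top_const {p k : ℕ} (hp : p.Prime) (hexp : ∀ g : G, ¬ p ^ 2 ∣ orderOf g)
    (hk : ∀ g : G, orderOf g = p → cl ↥(centralizer ({g} : Set G)) (Small p) = k) :
    cl G (Top p) = cl G (fun g => orderOf g = p) * k := by
  classical
  let T := {c : ConjClasses G // ∃ g, ConjClasses.mk g = c ∧ orderOf g = p}
  haveI : Fintype T := Fintype.ofFinite T
  have hspec : ∀ c : T, ConjClasses.mk c.2.choose = c.1 ∧ orderOf c.2.choose = p := fun c => c.2.choose_spec
  rw [cl_top hp hexp (fun c : T => c.2.choose) (fun c => (hspec c).2)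
    (fun i j h => Subtype.ext (by rw [← (hspec i).1, ← (hspec j).1, ConjClasses.mk_eq_mk_iff_isConj.2 h]))
    fun g hg => ⟨⟨ConjClasses.mk g, g, rfl, hg⟩,
      ConjClasses.mk_eq_mk_iff_isConj.1 (hspec ⟨ConjClasses.mk g, g, rfl, hg⟩).1.symm⟩,
    Finset.sum_congr rfl (fun c _ => hk _ (hspec c).2), Finset.sum_const, Finset.card_univ, smul_eq_mul,
    cl, Nat.card_eq_fintype_card]

/-- The centraliser of a conjugate element has as many classes of small elements. -/
theorem cl_centralizer_conj {p : ℕ} {a b : G} (h : IsConj a b) :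
    cl ↥(centralizer ({a} : Set G)) (Small p) = cl ↥(centralizer ({b} : Set G)) (Small p) := by
  obtain ⟨c, rfl⟩ := isConj_iff.1 h
  have hmap : (centralizer ({a} : Set G)).map (MulAut.conj c).toMonoidHom =
      centralizer ({c * a * c⁻¹} : Set G) := by
    ext y
    rw [Subgroup.mem_map_equiv, MulAut.conj_symm_apply, mem_centralizer_singleton_iff,
      mem_centralizer_singleton_iff]
    constructor
    · intro h
      calc y * (c * a * c⁻¹) = c * ((c⁻¹ * y * c) * a) * c⁻¹ := by group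
        _ = c * (a * (c⁻¹ * y * c)) * c⁻¹ := by rw [h]
        _ = _ := by group
    · intro h
      calc c⁻¹ * y * c * a = c⁻¹ * (y * (c * a * c⁻¹)) * c := by group
        _ = c⁻¹ * (c * a * c⁻¹ * y) * c := by rw [h]
        _ = _ := by group
  let e : ↥(centralizer ({a} : Set G)) ≃* ↥(centralizer ({c * a * c⁻¹} : Set G)) :=
    ((centralizer ({a} : Set G)).equivMapOfInjective _ (MulAut.conj c).injective).trans
      (MulEquiv.subgroupCongr hmap)
  exact cl_equiv e fun u => by unfold Small; rw [MulEquiv.orderOf_eq e u]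

end Top

end CfsgLib.J4Classes
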