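/-
Finite facts about `SL₃(2)` on its natural module, for the class count of `2³.L₃(2)`.
-/
import Mathlib.LinearAlgebra.Matrix.SpecialLinearGroup
import Mathlib.Data.ZMod.Basic
import Mathlib.LinearAlgebra.Matrix.Notation
import Mathlib.Data.Fintype.Pi

set_option autoImplicit false

namespace CfsgLib.J4Classes.EightExt

open Matrix

abbrev V3 := Fin 3 → ZMod 2
abbrev SL := Matrix.SpecialLinearGroup (Fin 3) (ZMod 2)

/-- The matrix of an element. -/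
abbrev MX := Matrix (Fin 3) (Fin 3) (ZMod 2)

def mat (g : SL) : MX := g.1

theorem mat_one : mat 1 = 1 := rfl

theorem mat_mul (a b : SL) : mat (a * b) = mat a * mat b := rfl

theorem mat_mulVec (a b : SL) (v : V3) : mat (a * b) *ᵥ v = mat a *ᵥ (mat b *ᵥ v) :=
  (mulVec_mulVec v (mat a) (mat b)).symm

/-! ### Facts about matrices -/

def mx : SL := ⟨!![1,0,1; 0,1,0; 0,0,1], by decide⟩
def md : SL := ⟨!![1,1,0; 0,1,0; 0,0,1], by decide⟩
def mr : SL := ⟨!![1,0,0; 0,0,1; 0,1,1], by decide⟩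
def mc : SL := ⟨!![1,0,0; 0,1,1; 0,0,1], by decide⟩
def mb : SL := ⟨!![0,0,1; 1,0,0; 0,1,0], by decide⟩
def mu : SL := ⟨!![1,1,0; 0,1,1; 0,0,1], by decide⟩

/-- `v` modulo the centre of the transvection `mx`. -/
def q (v : V3) : ZMod 2 × ZMod 2 := (v 1, v 2)

theorem q_add : ∀ v w : V3, q (v + w) = q v + q w := fun _ _ => rfl

set_option maxRecDepth 100000

theorem orders : mb ^ 3 = 1 ∧ mb ≠ 1 ∧ mx ^ 2 = 1 ∧ mx ≠ 1 ∧ mu ^ 4 = 1 ∧ mu ^ 2 ≠ 1 := by decide +kernel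

theorem rep_cover : ∀ m : SL, m ^ 7 ≠ 1 ∨ m = 1 →
    ∃ c : SL, c * m = c ∨ c * m = mx * c ∨ c * m = mb * c ∨ c * m = mu * c := by decide +kernel

theorem cen_b : ∀ m : SL, m * mb = mb * m → m = 1 ∨ m = mb ∨ m = mb * mb := by decide +kernel

theorem cen_u : ∀ m : SL, m * mu = mu * m → m = 1 ∨ m = mu ∨ m = mu * mu ∨ m = mu * (mu * mu) := by
  decide +kernel

theorem cen_x : ∀ m : SL, m * mx = mx * m →
    (mat (m) 1 2 = 0 ∧ (m = 1 ∨ m = mx ∨ m = md ∨ m = mx * md)) ∨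
    (mat (m) 1 2 = 1 ∧ (mc * m = 1 ∨ mc * m = mx ∨ mc * m = md ∨ mc * m = mx * md)) := by decide +kernel

theorem x_rel : mc * mx = mx * mc ∧ mc * mc = 1 ∧ md * mx = mx * md ∧
    mr * mx = md * mr ∧ mr * md = mx * md * mr ∧ md * md = 1 ∧ mx * mx = 1 := by decide +kernel

theorem vec_facts_x : ∀ v : V3,
    q (mat (mx) *ᵥ v) = q v ∧ q (mat (md) *ᵥ v) = q v ∧ q (mat (mx * md) *ᵥ v) = q v ∧
      q (mat (mc) *ᵥ v) = ((q v).1 + (q v).2, (q v).2) ∧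
      q (mat (mr) *ᵥ v) = ((q v).2, (q v).1 + (q v).2) := by decide +kernel

theorem moved_x : ∀ v w : V3, q v = q w → ∃ e : V3, mat (mx) *ᵥ e + e + v = w := by decide +kernel

theorem moved_b : ∀ v w : V3, v 0 + v 1 + v 2 = w 0 + w 1 + w 2 →
    ∃ e : V3, mat (mb * mb) *ᵥ e + e + v = w := by decide +kernel

theorem moved_u : ∀ v w : V3, v 2 = w 2 → ∃ e : V3, mat (mu * (mu * mu)) *ᵥ e + e + v = w := by decide +kernel

theorem fix_b : ∀ v : V3, (mat (mb) *ᵥ v) 0 + (mat (mb) *ᵥ v) 1 + (mat (mb) *ᵥ v) 2 = v 0 + v 1 + v 2 := by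
  decide +kernel

theorem inv_facts : mb⁻¹ = mb * mb ∧ mu⁻¹ = mu * (mu * mu) := by
  refine ⟨inv_eq_of_mul_eq_one_right ?_, inv_eq_of_mul_eq_one_right ?_⟩ <;> decide +kernel

theorem fix_u : ∀ v : V3, (mat (mu) *ᵥ v) 2 = v 2 := by decide +kernel

theorem trans_one : ∀ v w : V3, v ≠ 0 → w ≠ 0 → ∃ m : SL, mat (m) *ᵥ v = w := by decide +kernel

end CfsgLib.J4Classes.EightExt
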