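/-
The 7-regular conjugacy classes of an extension of an elementary abelian group of order 8 by `L₃(2)` acting on it
non-trivially: there are nine of them.
-/
import Cfsg.Agent.HSUniq.Setup
import Cfsg.Agent.J4Classes.EightExtFacts
import Mathlib.Algebra.Module.ZMod
import Mathlib.LinearAlgebra.Matrix.ToLin
import Mathlib.LinearAlgebra.FreeModule.Finite.Basic
import Mathlib.LinearAlgebra.Dimension.Finrank
import Mathlib.Algebra.Group.Conj

set_option autoImplicit false
set_option linter.style.haveILetI false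
set_option linter.unusedSectionVars false

namespace CfsgLib.J4Classes.EightExt

open Subgroup Matrix

/-- The coordinatised situation: `π` is the action of the group on the normal subgroup `E`. -/
structure Ctx (J : Type*) [Group J] where
  π : J →* SL
  vec : J → V3
  π_surj : Function.Surjective π
  vec_mul : ∀ a b : J, π a = 1 → π b = 1 → vec (a * b) = vec a + vec b
  vec_inj : ∀ a b : J, π a = 1 → π b = 1 → vec a = vec b → a = b
  vec_surj : ∀ v : V3, ∃ a : J, π a = 1 ∧ vec a = v
  vec_conj : ∀ g a : J, π a = 1 → vec (g * a * g⁻¹) = mat (π g) *ᵥ vec a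

set_option maxHeartbeats 1000000 in
theorem exists_ctx {J : Type*} [Group J] [Finite J] (E : Subgroup J) [E.Normal]
    (hE : IsMulCommutative E) (hE2 : ∀ a ∈ E, a ^ 2 = 1) (hE8 : Nat.card E = 8)
    (hQ : Nonempty (J ⧸ E ≃* SL)) (hnc : ¬ E ≤ Subgroup.center J) : Nonempty (Ctx J) := by
  classical
  letI : CommGroup E := { (inferInstance : Group E) with mul_comm := fun a b => hE.is_comm.comm a b }
  letI : Module (ZMod 2) (Additive E) := AddCommGroup.zmodModule fun x =>
    Subtype.ext (hE2 _ (Additive.toMul x).2)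
  haveI : Finite (Additive E) := inferInstanceAs (Finite E)
  haveI : Module.Finite (ZMod 2) (Additive E) := Module.Finite.of_finite
  have hr : Module.finrank (ZMod 2) (Additive E) = 3 := by
    have h := Module.natCard_eq_pow_finrank (K := ZMod 2) (V := Additive E)
    rw [show Nat.card (Additive E) = 8 from hE8, Nat.card_zmod] at h
    exact (Nat.pow_right_injective (le_refl 2) (h.symm.trans (by norm_num) :
      (2 : ℕ) ^ Module.finrank (ZMod 2) (Additive E) = 2 ^ 3))
  let ε : Additive E ≃ₗ[ZMod 2] V3 := (Module.finBasisOfFinrankEq (ZMod 2) (Additive E) hr).equivFun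
  let cj : J → (V3 →ₗ[ZMod 2] V3) := fun g =>
    AddMonoidHom.toZModLinearMap 2
      (ε.toLinearMap.toAddMonoidHom.comp
        ((MonoidHom.toAdditive (MulAut.conjNormal g : E ≃* E).toMonoidHom).comp
          ε.symm.toLinearMap.toAddMonoidHom))
  let cm : J → Matrix (Fin 3) (Fin 3) (ZMod 2) := fun g => LinearMap.toMatrix' (cj g)
  have hcj : ∀ g v, cj g v = ε (Additive.ofMul (MulAut.conjNormal g (Additive.toMul (ε.symm v)))) := fun g v => rfl
  have h1 : cm 1 = 1 := by
    show LinearMap.toMatrix' (cj 1) = 1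
    rw [← LinearMap.toMatrix'_id]
    congr 1
    refine LinearMap.ext fun v => ?_
    rw [hcj, map_one, MulAut.one_apply, ofMul_toMul, LinearEquiv.apply_symm_apply, LinearMap.id_apply]
  have hm : ∀ g h, cm (g * h) = cm g * cm h := fun g h => by
    show LinearMap.toMatrix' (cj (g * h)) = LinearMap.toMatrix' (cj g) * LinearMap.toMatrix' (cj h)
    rw [← LinearMap.toMatrix'_comp]
    congr 1
    refine LinearMap.ext fun v => ?_
    rw [LinearMap.comp_apply, hcj, hcj g, hcj h, LinearEquiv.symm_apply_apply, toMul_ofMul, map_mul,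
      MulAut.mul_apply]
  have hdet : ∀ g, (cm g).det = 1 := fun g => by
    have e : (cm g).det * (cm g⁻¹).det = 1 := by rw [← Matrix.det_mul, ← hm, mul_inv_cancel, h1, Matrix.det_one]
    exact (show ∀ a b : ZMod 2, a * b = 1 → a = 1 by decide) _ _ e
  let π : J →* SL := MonoidHom.mk' (fun g => ⟨cm g, hdet g⟩) fun g h => Subtype.ext (hm g h)
  let vec : J → V3 := fun a => if h : a ∈ E then ε (Additive.ofMul ⟨a, h⟩) else 0
  have hπ1 : ∀ g, π g = 1 ↔ ∀ e : E, MulAut.conjNormal g e = e := by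
    intro g
    constructor
    · intro h e
      have h2 : cm g = 1 := congrArg Subtype.val h
      have h3 : cj g = LinearMap.id := LinearMap.toMatrix'.injective (by
        rw [LinearMap.toMatrix'_id]; exact h2)
      have h4 := congrArg (fun L : V3 →ₗ[ZMod 2] V3 => L (ε (Additive.ofMul e))) h3
      simp only [hcj, LinearEquiv.symm_apply_apply, toMul_ofMul, LinearMap.id_apply] at h4
      exact Additive.ofMul.injective (ε.injective h4)
    · intro h
      refine Subtype.ext ?_
      show LinearMap.toMatrix' (cj g) = 1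
      rw [← LinearMap.toMatrix'_id]
      congr 1
      refine LinearMap.ext fun v => ?_
      rw [hcj, h, ofMul_toMul, LinearEquiv.apply_symm_apply, LinearMap.id_apply]
  have hEker : E ≤ π.ker := fun a ha => (hπ1 a).2 fun e => Subtype.ext (by
    rw [MulAut.conjNormal_apply]
    have := congrArg Subtype.val (hE.is_comm.comm (⟨a, ha⟩ : E) e)
    simp only [Subgroup.coe_mul] at this
    rw [this, mul_inv_cancel_right])
  have hker : π.ker = E := by
    refine le_antisymm ?_ hEker
    obtain ⟨Φ⟩ := hQ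
    haveI : IsSimpleGroup SL := CfsgLib.HSUniq.isSimpleGroup_sl32
    haveI : IsSimpleGroup (J ⧸ E) := Φ.isSimpleGroup
    rcases (Subgroup.Normal.map (inferInstance : π.ker.Normal) (QuotientGroup.mk' E)
      (QuotientGroup.mk'_surjective E)).eq_bot_or_eq_top with h | h
    · rw [Subgroup.map_eq_bot_iff, QuotientGroup.ker_mk'] at h
      exact h
    · exfalso
      refine hnc fun e he => Subgroup.mem_center_iff.2 fun g => ?_
      obtain ⟨k, hk, e2⟩ := (h ▸ Subgroup.mem_top (g : J ⧸ E) : (g : J ⧸ E) ∈ π.ker.map (QuotientGroup.mk' E))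
      have hgk : k⁻¹ * g ∈ E := QuotientGroup.eq.1 e2
      have hg : π g = 1 := by
        rw [← mul_inv_cancel_left k g, map_mul, MonoidHom.mem_ker.1 hk, one_mul]
        exact hEker hgk
      have := congrArg Subtype.val ((hπ1 g).1 hg ⟨e, he⟩)
      rw [MulAut.conjNormal_apply] at this
      exact mul_inv_eq_iff_eq_mul.1 this
  have hsurj : Function.Surjective π := by
    obtain ⟨Φ⟩ := hQ
    have hrc : Nat.card π.range = Nat.card SL := by
      rw [← Subgroup.index_ker, hker, Subgroup.index, Nat.card_congr Φ.toEquiv]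
    exact MonoidHom.range_eq_top.1 (Subgroup.eq_top_of_card_eq _ hrc)
  have hmem : ∀ a, π a = 1 → a ∈ E := fun a h => hker ▸ MonoidHom.mem_ker.2 h
  have hv : ∀ a (h : a ∈ E), vec a = ε (Additive.ofMul ⟨a, h⟩) := fun a h => dif_pos h
  refine ⟨⟨π, vec, hsurj, fun a b ha hb => ?_, fun a b ha hb h => ?_, fun v => ?_, fun g a ha => ?_⟩⟩
  · rw [hv a (hmem a ha), hv b (hmem b hb), hv _ (mul_mem (hmem a ha) (hmem b hb)), ← map_add]
    rfl
  · rw [hv a (hmem a ha), hv b (hmem b hb)] at h
    exact congrArg Subtype.val (Additive.ofMul.injective (ε.injective h))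
  · refine ⟨(Additive.toMul (ε.symm v) : E), hEker (Additive.toMul (ε.symm v)).2, ?_⟩
    rw [hv _ (Additive.toMul (ε.symm v)).2, Subtype.coe_eta, ofMul_toMul, LinearEquiv.apply_symm_apply]
  · rw [hv a (hmem a ha), hv _ (Subgroup.Normal.conj_mem inferInstance a (hmem a ha) g)]
    show _ = cm g *ᵥ _
    rw [show cm g = LinearMap.toMatrix' (cj g) from rfl, LinearMap.toMatrix'_mulVec, hcj,
      LinearEquiv.symm_apply_apply, toMul_ofMul]
    rfl

variable {J : Type*} [Group J] (C : Ctx J)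

local notation:max "M(" g ")" => mat g

/-- The coordinates of `a⁻¹ b`, for `a`, `b` over the same element of `SL`. -/
def Ctx.d (a b : J) : V3 := C.vec (a⁻¹ * b)

theorem Ctx.π_inv_mul {a b : J} (h : C.π a = C.π b) : C.π (a⁻¹ * b) = 1 := by
  rw [map_mul, map_inv, h, inv_mul_cancel]

theorem Ctx.vec_one : C.vec 1 = 0 := by
  have h := C.vec_mul 1 1 (map_one _) (map_one _)
  rw [one_mul, left_eq_add] at h
  exact h

theorem Ctx.d_self (a : J) : C.d a a = 0 := by rw [Ctx.d, inv_mul_cancel, C.vec_one]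

theorem Ctx.d_add {a b c : J} (h1 : C.π a = C.π b) (h2 : C.π b = C.π c) :
    C.d a c = C.d a b + C.d b c := by
  rw [Ctx.d, Ctx.d, Ctx.d, ← C.vec_mul _ _ (C.π_inv_mul h1) (C.π_inv_mul h2), mul_assoc, mul_inv_cancel_left]

theorem Ctx.d_inj {a b c : J} (h1 : C.π a = C.π b) (h2 : C.π a = C.π c) (h : C.d a b = C.d a c) : b = c :=
  mul_left_cancel (C.vec_inj _ _ (C.π_inv_mul h1) (C.π_inv_mul h2) h)

theorem Ctx.exists_d (a : J) (v : V3) : ∃ b, C.π b = C.π a ∧ C.d a b = v := by
  obtain ⟨e, he, rfl⟩ := C.vec_surj v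
  exact ⟨a * e, by rw [map_mul, he, mul_one], by rw [Ctx.d, inv_mul_cancel_left]⟩

theorem Ctx.π_conj {g a b : J} (h : C.π a = C.π b) : C.π (g * a * g⁻¹) = C.π (g * b * g⁻¹) := by
  simp only [map_mul, h]

theorem Ctx.d_conj (g : J) {a b : J} (h : C.π a = C.π b) :
    C.d (g * a * g⁻¹) (g * b * g⁻¹) = M(C.π g) *ᵥ C.d a b := by
  rw [Ctx.d, Ctx.d, ← C.vec_conj g _ (C.π_inv_mul h)]
  congr 1
  group

/-- Conjugation by an element of `E`. -/
theorem Ctx.d_elem (a : J) {e : J} (he : C.π e = 1) :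
    C.d a (e * a * e⁻¹) = M(C.π a⁻¹) *ᵥ C.vec e + C.vec e := by
  have hinv : C.π e⁻¹ = 1 := by rw [map_inv, he, inv_one]
  have hneg : C.vec e⁻¹ = C.vec e := by
    have h := C.vec_mul e⁻¹ e hinv he
    rw [inv_mul_cancel, C.vec_one] at h
    exact funext fun i => by
      have := congrFun h i
      revert this
      simp only [Pi.zero_apply, Pi.add_apply]
      generalize C.vec e⁻¹ i = p
      generalize C.vec e i = q
      revert p q
      decide
  rw [Ctx.d, show a⁻¹ * (e * a * e⁻¹) = a⁻¹ * e * a⁻¹⁻¹ * e⁻¹ by group,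
    C.vec_mul _ _ (by simp [map_mul, he]) hinv, hneg, C.vec_conj _ _ he]

/-- The displacement of `a` under `g`. -/
def Ctx.t (a g : J) : V3 := C.d a (g * a * g⁻¹)

def Cen (C : Ctx J) (a g : J) : Prop := C.π g * C.π a = C.π a * C.π g

theorem Ctx.cen_π {a g : J} (h : Cen C a g) : C.π (g * a * g⁻¹) = C.π a := by
  rw [map_mul, map_mul, h, map_inv, mul_inv_cancel_right]

theorem Ctx.cen_mul {a g h : J} (hg : Cen C a g) (hh : Cen C a h) : Cen C a (g * h) := by
  unfold Cen at *
  rw [map_mul, mul_assoc, hh, ← mul_assoc, hg, mul_assoc]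

theorem Ctx.t_mul {a g h : J} (hg : Cen C a g) (hh : Cen C a h) :
    C.t a (g * h) = C.t a g + M(C.π g) *ᵥ C.t a h := by
  have e : g * h * a * (g * h)⁻¹ = g * (h * a * h⁻¹) * g⁻¹ := by group
  rw [Ctx.t, Ctx.t, Ctx.t, e, C.d_add (b := g * a * g⁻¹) (C.cen_π hg).symm (C.π_conj (C.cen_π hh).symm),
    C.d_conj g (C.cen_π hh).symm]

theorem Ctx.t_self (a : J) : C.t a a = 0 := by rw [Ctx.t, mul_inv_cancel_right, C.d_self]

theorem Ctx.d_moved {a g : J} (hg : Cen C a g) {b : J} (hb : C.π b = C.π a) :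
    C.d a (g * b * g⁻¹) = C.t a g + M(C.π g) *ᵥ C.d a b := by
  rw [C.d_add (b := g * a * g⁻¹) (C.cen_π hg).symm (C.π_conj hb.symm), C.d_conj g hb.symm]
  rfl

/-! ### The fibre over the transvection -/

theorem Ctx.rel_elem {a g : J} (h : C.π g = 1) : Cen C a g := by
  unfold Cen; rw [h, one_mul, mul_one]

theorem Ctx.t_one {y g : J} (hy : C.π y = mx) (hg : C.π g = 1) : q (C.t y g) = 0 := by
  rw [Ctx.t, C.d_elem y hg, map_inv, hy, inv_eq_of_mul_eq_one_right x_rel.2.2.2.2.2.2, q_add,
    (vec_facts_x _).1]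
  generalize q (C.vec g) = p
  revert p
  decide

theorem Ctx.t_over_x {y g : J} (hy : C.π y = mx) (hg : C.π g = mx) : q (C.t y g) = 0 := by
  obtain ⟨e, he, rfl⟩ : ∃ e, C.π e = 1 ∧ g = y * e :=
    ⟨y⁻¹ * g, C.π_inv_mul (hy.trans hg.symm), (mul_inv_cancel_left y g).symm⟩
  rw [C.t_mul (by rfl) (C.rel_elem he), C.t_self, zero_add, hy, (vec_facts_x _).1, C.t_one hy he]

theorem Ctx.t_over_d {y g : J} (hy : C.π y = mx) (hg : C.π g = md) : q (C.t y g) = 0 := by
  obtain ⟨R, hR⟩ := C.π_surj mr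
  obtain ⟨-, -, hdx, hrx, hrd, hdd, hxx⟩ := x_rel
  have hmd : C.π (R * y * R⁻¹) = md := by
    rw [map_mul, map_mul, map_inv, hR, hy, hrx, mul_inv_cancel_right]
  have hmxd : C.π (R * g * R⁻¹) = mx * md := by
    rw [map_mul, map_mul, map_inv, hR, hg, hrd, mul_inv_cancel_right]
  -- the displacement does not depend on the lifts
  have key : ∀ a b : J, C.π a = mx * md → C.π b = md → q (C.t b a) = q (C.t y g) := by
    intro a b ha hb
    have hgyg : Cen C g (y * g) := by unfold Cen; rw [map_mul, hy, hg, mul_assoc, hdd, ← mul_assoc, hdx, mul_assoc, hdd]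
    have hcy : Cen C g y := by unfold Cen; rw [hy, hg]; exact hdx.symm
    obtain ⟨e, he, rfl⟩ : ∃ e, C.π e = 1 ∧ a = y * g * e :=
      ⟨(y * g)⁻¹ * a, C.π_inv_mul (by rw [map_mul, hy, hg, ha]), (mul_inv_cancel_left (y * g) a).symm⟩
    -- `b` and `g` lie over the same element
    have hbg : C.π b = C.π g := hb.trans hg.symm
    have hcb : Cen C g (y * g * e) := C.cen_mul hgyg (C.rel_elem he)
    have e1 : C.t b (y * g * e) = C.d b g + C.t g (y * g * e) + M(C.π (y * g * e)) *ᵥ C.d g b := by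
      rw [Ctx.t, C.d_add (b := g) hbg (by rw [← hbg]; exact (C.cen_π (by unfold Cen; rw [hbg]; exact hcb)).symm),
        C.d_moved hcb hbg, add_assoc]
    have hsym : C.d b g = C.d g b := by
      have h := C.d_add hbg hbg.symm
      rw [C.d_self] at h
      funext i
      have := congrFun h i
      simp only [Pi.zero_apply, Pi.add_apply] at this
      revert this
      generalize C.d b g i = p
      generalize C.d g b i = p'
      revert p p'
      decide
    have he0 : q (C.t g e) = 0 := by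
      rw [Ctx.t, C.d_elem g he, map_inv, hg, inv_eq_of_mul_eq_one_right hdd, q_add, (vec_facts_x _).2.1]
      generalize q (C.vec e) = p
      revert p
      decide
    rw [e1, q_add, q_add, hsym, ha, (vec_facts_x _).2.2.1, C.t_mul hgyg (C.rel_elem he), q_add, map_mul, hy, hg,
      (vec_facts_x _).2.2.1, he0, add_zero, C.t_mul hcy (by rfl), C.t_self, mulVec_zero, add_zero]
    -- `t g y` against `t y g`
    have e2 : q (C.t g y) = q (C.t y g) := by
      have h3 : g⁻¹ * (y * g * y⁻¹) = g⁻¹ * (y * (y⁻¹ * (g * y * g⁻¹))⁻¹ * y⁻¹) * g⁻¹⁻¹ := by group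
      have hw : C.π (y⁻¹ * (g * y * g⁻¹)) = 1 := C.π_inv_mul (C.cen_π (by unfold Cen; rw [hg, hy]; exact hdx)).symm
      have hw' : C.π (y⁻¹ * (g * y * g⁻¹))⁻¹ = 1 := by rw [map_inv, hw, inv_one]
      have hneg : C.vec (y⁻¹ * (g * y * g⁻¹))⁻¹ = C.vec (y⁻¹ * (g * y * g⁻¹)) := by
        have h := C.vec_mul _ _ hw' hw
        rw [inv_mul_cancel, C.vec_one] at h
        funext i
        have := congrFun h i
        simp only [Pi.zero_apply, Pi.add_apply] at this
        revert this
        generalize C.vec (y⁻¹ * (g * y * g⁻¹))⁻¹ i = p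
        generalize C.vec (y⁻¹ * (g * y * g⁻¹)) i = p'
        revert p p'
        decide
      have hyc : C.π (y * (y⁻¹ * (g * y * g⁻¹))⁻¹ * y⁻¹) = 1 := by
        rw [map_mul, map_mul, hw', mul_one, map_inv, mul_inv_cancel]
      show q (C.vec (g⁻¹ * (y * g * y⁻¹))) = q (C.vec (y⁻¹ * (g * y * g⁻¹)))
      rw [h3, C.vec_conj g⁻¹ _ hyc, C.vec_conj y _ hw', hneg, map_inv, hg, inv_eq_of_mul_eq_one_right hdd, hy,
        (vec_facts_x _).2.1, (vec_facts_x _).1]
    rw [e2]
    generalize q (C.t y g) = p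
    generalize q (C.d g b) = p'
    revert p p'
    decide
  have hk := key _ _ hmxd hmd
  -- and it is carried by the element of order three
  have hconj : C.t (R * y * R⁻¹) (R * g * R⁻¹) = M(C.π R) *ᵥ C.t y g := by
    rw [Ctx.t, Ctx.t, ← C.d_conj R (C.cen_π (by unfold Cen; rw [hg, hy]; exact hdx)).symm]
    congr 1
    group
  rw [hconj, hR, (vec_facts_x _).2.2.2.2] at hk
  revert hk
  generalize q (C.t y g) = p
  revert p
  decide

theorem Ctx.t_linear_trivial {y g : J} (hy : C.π y = mx) (hg : C.π g = 1 ∨ C.π g = mx ∨ C.π g = md ∨ C.π g = mx * md) :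
    q (C.t y g) = 0 := by
  rcases hg with h | h | h | h
  · exact C.t_one hy h
  · exact C.t_over_x hy h
  · exact C.t_over_d hy h
  · obtain ⟨e, he⟩ : ∃ e, e = y⁻¹ * g := ⟨_, rfl⟩
    have hed : C.π e = md := by rw [he, map_mul, map_inv, hy, h, inv_mul_cancel_left]
    have hce : Cen C y e := by unfold Cen; rw [hy, hed]; exact x_rel.2.2.1
    rw [show g = y * e by rw [he, mul_inv_cancel_left], C.t_mul (by rfl) hce, C.t_self, zero_add, hy,
      (vec_facts_x _).1, C.t_over_d hy hed]

theorem Ctx.exists_tau {y : J} (hy : C.π y = mx) : ∃ c : J, ∃ τ : ZMod 2, C.π c = mc ∧ q (C.t y c) = (τ, 0) ∧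
    ∀ g, Cen C y g → q (C.t y g) = (M(C.π g) 1 2 * τ, 0) ∧
      ∀ v, q (M(C.π g) *ᵥ v) = ((q v).1 + M(C.π g) 1 2 * (q v).2, (q v).2) := by
  obtain ⟨c, hc⟩ := C.π_surj mc
  obtain ⟨hcx, hcc, hdx, -, -, -, -⟩ := x_rel
  have hcc' : Cen C y c := by unfold Cen; rw [hc, hy]; exact hcx
  have h2 : (q (C.t y c)).2 = 0 := by
    have h := C.t_linear_trivial hy (g := c * c) (Or.inl (by rw [map_mul, hc, hcc]))
    rw [C.t_mul hcc' hcc', q_add, hc, (vec_facts_x _).2.2.2.1] at h
    revert h
    generalize q (C.t y c) = p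
    revert p
    decide
  refine ⟨c, (q (C.t y c)).1, hc, Prod.ext rfl h2, fun g hg => ?_⟩
  have hgm : C.π g * mx = mx * C.π g := hy ▸ hg
  rcases cen_x _ hgm with ⟨hα, hm⟩ | ⟨hα, hm⟩
  · refine ⟨by rw [C.t_linear_trivial hy hm, hα, zero_mul]; rfl, fun v => ?_⟩
    rw [hα, zero_mul, add_zero]
    rcases hm with h | h | h | h <;> rw [h]
    · rw [mat_one, one_mulVec]
    · exact (vec_facts_x v).1
    · exact (vec_facts_x v).2.1
    · exact (vec_facts_x v).2.2.1
  · have hh : C.π (c * g) = mc * C.π g := by rw [map_mul, hc]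
    have h0 : q (C.t y (c * g)) = 0 := C.t_linear_trivial hy (by rw [hh]; exact hm)
    have hfix : ∀ v : V3, q (M(mc * C.π g) *ᵥ v) = q v := by
      intro v
      rcases hm with h | h | h | h <;> rw [h]
      · rw [mat_one, one_mulVec]
      · exact (vec_facts_x v).1
      · exact (vec_facts_x v).2.1
      · exact (vec_facts_x v).2.2.1
    rw [C.t_mul hcc' hg, q_add, hc, (vec_facts_x _).2.2.2.1] at h0
    refine ⟨?_, fun v => ?_⟩
    · rw [hα, one_mul]
      revert h0 h2
      generalize q (C.t y g) = p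
      generalize q (C.t y c) = p'
      revert p p'
      decide
    · have h1 := hfix v
      rw [mat_mulVec, (vec_facts_x _).2.2.2.1] at h1
      rw [hα, one_mul]
      revert h1
      generalize q (M(C.π g) *ᵥ v) = p
      generalize q v = p'
      revert p p'
      decide

/-- The invariant on the fibre over the transvection. -/
def phi (τ : ZMod 2) (p : ZMod 2 × ZMod 2) : Fin 3 :=
  if τ = 0 then (if p.2 = 1 then 2 else if p.1 = 1 then 1 else 0)
  else (if p.2 = 0 then 0 else if p.1 = 1 then 1 else 2)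

theorem phi_facts : ∀ τ : ZMod 2, (∀ i, ∃ p, phi τ p = i) ∧
    (∀ (α : ZMod 2) (p : ZMod 2 × ZMod 2), phi τ ((α * τ, 0) + (p.1 + α * p.2, p.2)) = phi τ p) ∧
    ∀ p p', phi τ p = phi τ p' → p = p' ∨ p' = (τ, 0) + (p.1 + p.2, p.2) := by decide +kernel

theorem q_surj : ∀ p : ZMod 2 × ZMod 2, ∃ v : V3, q v = p := by decide +kernel

/-! ### Fibres -/

theorem Ctx.conj_in_fibre {a b b' : J} (hb : C.π b = C.π a) (hb' : C.π b' = C.π a)
    (h : ∃ e : V3, M((C.π a)⁻¹) *ᵥ e + e + C.d a b = C.d a b') : IsConj b b' := by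
  obtain ⟨v, hv⟩ := h
  obtain ⟨e, he, rfl⟩ := C.vec_surj v
  refine isConj_iff.2 ⟨e, C.d_inj (a := a) ?_ hb'.symm ?_⟩
  · rw [map_mul, map_mul, he, map_inv, he, one_mul, inv_one, mul_one, hb]
  · rw [C.d_moved (C.rel_elem he) hb, Ctx.t, C.d_elem a he, map_inv, he, mat_one,
      one_mulVec, hv]

theorem Ctx.inv_powers {a g : J} (f : V3 → ZMod 2) (hadd : ∀ v w, f (v + w) = f v + f w)
    (hfix : ∀ v, f (M(C.π a) *ᵥ v) = f v) (k : ℕ) (hg : C.π g = C.π a ^ k) {b : J} (hb : C.π b = C.π a) :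
    f (C.d a (g * b * g⁻¹)) = f (C.d a b) := by
  obtain ⟨e, he, rfl⟩ : ∃ e, C.π e = 1 ∧ g = a ^ k * e :=
    ⟨(a ^ k)⁻¹ * g, C.π_inv_mul (by rw [map_pow, hg]), (mul_inv_cancel_left _ _).symm⟩
  have hpow : ∀ v, f (M(C.π a ^ k) *ᵥ v) = f v := by
    clear hg
    induction k with
    | zero => intro v; rw [pow_zero, mat_one, one_mulVec]
    | succ k ih => intro v; rw [pow_succ, mat_mulVec, ih, hfix]
  have hca : Cen C a (a ^ k) := by unfold Cen; rw [map_pow]; exact pow_mul_comm' _ _
  have ht : C.t a (a ^ k) = 0 := by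
    rw [Ctx.t, show a ^ k * a * (a ^ k)⁻¹ = a by rw [pow_mul_comm', mul_inv_cancel_right], C.d_self]
  have h0 : f 0 = 0 := by
    have := hadd 0 0
    rw [add_zero, left_eq_add] at this
    exact this
  have hfinv : ∀ v, f (M((C.π a)⁻¹) *ᵥ v) = f v := fun v => by
    conv_rhs => rw [← one_mulVec v, ← mat_one, ← mul_inv_cancel (C.π a),
      mat_mulVec]
    rw [hfix]
  rw [C.d_moved (C.cen_mul hca (C.rel_elem he)) hb, C.t_mul hca (C.rel_elem he), ht, zero_add, hadd,
    map_mul, map_pow, he, mul_one, hpow, hpow, Ctx.t, C.d_elem a he, map_inv, hadd, hfinv,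
    CharTwo.add_self_eq_zero, zero_add]

theorem Ctx.order_iff (g : J) : ¬ 7 ∣ orderOf g ↔ C.π g ^ 7 ≠ 1 ∨ C.π g = 1 := by
  haveI : Fact (Nat.Prime 7) := ⟨by decide⟩
  have h2 : g ^ (orderOf (C.π g) * 2) = 1 := by
    have hz : C.π (g ^ orderOf (C.π g)) = 1 := by rw [map_pow, pow_orderOf_eq_one]
    rw [pow_mul, pow_two]
    refine C.vec_inj _ _ (by rw [map_mul, hz, one_mul]) (map_one _) ?_
    rw [C.vec_mul _ _ hz hz, C.vec_one]
    funext i
    exact CharTwo.add_self_eq_zero _
  constructor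
  · intro h
    by_contra hcon
    rw [not_or, not_not] at hcon
    exact h ((orderOf_eq_prime hcon.1 hcon.2) ▸ orderOf_map_dvd C.π g)
  · intro h hd
    have h7 : 7 ∣ orderOf (C.π g) * 2 := hd.trans (orderOf_dvd_of_pow_eq_one h2)
    have h7' : 7 ∣ orderOf (C.π g) := (Nat.Coprime.dvd_of_dvd_mul_right (by norm_num) h7)
    have hz := pow_orderOf_eq_one (C.π g)
    have key : ∀ m : SL, m ^ 7 ≠ 1 ∨ m = 1 → m ^ 12 = 1 := by decide +kernel
    exact absurd (h7'.trans (orderOf_dvd_of_pow_eq_one (key _ h))) (by norm_num)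

/-- The classes are named by the type of the image and the value of the invariant on its fibre. -/
theorem count (C : Ctx J) : Nat.card {c : ConjClasses J // ∃ g, ConjClasses.mk g = c ∧ ¬ 7 ∣ orderOf g} = 9 := by
  classical
  obtain ⟨y, hy⟩ := C.π_surj mx
  obtain ⟨b, hb⟩ := C.π_surj mb
  obtain ⟨u, hu⟩ := C.π_surj mu
  obtain ⟨c, τ, hc, hτ, hcen⟩ := C.exists_tau hy
  -- base points and invariants
  let fb : V3 → ZMod 2 := fun v => v 0 + v 1 + v 2
  let fu : V3 → ZMod 2 := fun v => v 2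
  let base : Fin 4 → J := ![1, y, b, u]
  let inv : Fin 4 → V3 → Fin 3 := ![fun v => if v = 0 then 0 else 1, fun v => phi τ (q v),
    fun v => if fb v = 0 then 0 else 1, fun v => if fu v = 0 then 0 else 1]
  have hx2 : (C.π y)⁻¹ = C.π y := by rw [hy]; exact inv_eq_of_mul_eq_one_right x_rel.2.2.2.2.2.2
  -- the invariants are constant on classes
  have hconst : ∀ i g a, C.π a = C.π (base i) → C.π g * C.π (base i) = C.π (base i) * C.π g →
      inv i (C.d (base i) (g * a * g⁻¹)) = inv i (C.d (base i) a) := by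
    intro i g a ha hg
    fin_cases i
    · show (if C.d 1 (g * a * g⁻¹) = 0 then (0 : Fin 3) else 1) = if C.d 1 a = 0 then 0 else 1
      have ha1 : C.π a = 1 := ha.trans (map_one _)
      have e : C.d 1 (g * a * g⁻¹) = M(C.π g) *ᵥ C.d 1 a := by
        simp only [Ctx.d, inv_one, one_mul]; exact C.vec_conj g a ha1
      rw [e]
      refine if_congr ⟨fun h => ?_, fun h => by rw [h, mulVec_zero]⟩ rfl rfl
      rw [← one_mulVec (C.d 1 a), ← mat_one, ← inv_mul_cancel (C.π g),
        mat_mulVec, h, mulVec_zero]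
    · show phi τ (q (C.d y (g * a * g⁻¹))) = phi τ (q (C.d y a))
      obtain ⟨h1, h2⟩ := hcen g hg
      rw [C.d_moved (a := y) hg ha, q_add, h1, h2, (phi_facts τ).2.1]
    · show (if fb (C.d b (g * a * g⁻¹)) = 0 then (0 : Fin 3) else 1) = if fb (C.d b a) = 0 then 0 else 1
      have hadd : ∀ v w : V3, fb (v + w) = fb v + fb w := fun v w => by
        simp only [fb, Pi.add_apply]; ring
      have hpow : ∃ k : ℕ, C.π g = C.π b ^ k := by
        rcases cen_b (C.π g) (by rw [← hb]; exact hg) with h | h | h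
        · exact ⟨0, by rw [h, pow_zero]⟩
        · exact ⟨1, by rw [h, hb, pow_one]⟩
        · exact ⟨2, by rw [h, hb, pow_two]⟩
      obtain ⟨k, hk⟩ := hpow
      rw [C.inv_powers fb hadd (fun v => by rw [hb]; exact fix_b v) k hk ha]
    · show (if fu (C.d u (g * a * g⁻¹)) = 0 then (0 : Fin 3) else 1) = if fu (C.d u a) = 0 then 0 else 1
      have hpow : ∃ k : ℕ, C.π g = C.π u ^ k := by
        rcases cen_u (C.π g) (by rw [← hu]; exact hg) with h | h | h | h
        · exact ⟨0, by rw [h, pow_zero]⟩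
        · exact ⟨1, by rw [h, hu, pow_one]⟩
        · exact ⟨2, by rw [h, hu, pow_two]⟩
        · exact ⟨3, by rw [h, hu, pow_succ, pow_two, mul_assoc]⟩
      obtain ⟨k, hk⟩ := hpow
      rw [C.inv_powers fu (fun _ _ => rfl) (fun v => by rw [hu]; exact fix_u v) k hk ha]
  -- equal invariants give conjugate elements
  have hfull : ∀ i a a', C.π a = C.π (base i) → C.π a' = C.π (base i) →
      inv i (C.d (base i) a) = inv i (C.d (base i) a') → IsConj a a' := by
    intro i a a' ha ha' h
    fin_cases i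
    · have h1 : C.π a = 1 := ha.trans (map_one _)
      have h2 : C.π a' = 1 := ha'.trans (map_one _)
      have e : ∀ z : J, C.d 1 z = C.vec z := fun z => by rw [Ctx.d, inv_one, one_mul]
      change (if C.d 1 a = 0 then (0 : Fin 3) else 1) = if C.d 1 a' = 0 then 0 else 1 at h
      rw [e, e] at h
      by_cases hz : C.vec a = 0
      · have hz' : C.vec a' = 0 := by by_contra hne; rw [if_pos hz, if_neg hne] at h; exact absurd h (by decide)
        rw [C.vec_inj a a' h1 h2 (hz.trans hz'.symm)]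
      · have hz' : C.vec a' ≠ 0 := fun hne => by rw [if_neg hz, if_pos hne] at h; exact absurd h (by decide)
        obtain ⟨m, hm⟩ := trans_one _ _ hz hz'
        obtain ⟨g, rfl⟩ := C.π_surj m
        refine isConj_iff.2 ⟨g, C.vec_inj _ _ (by rw [map_mul, map_mul, h1, mul_one, map_inv, mul_inv_cancel]) h2 ?_⟩
        rw [C.vec_conj g a h1, hm]
    · change phi τ (q (C.d y a)) = phi τ (q (C.d y a')) at h
      rcases (phi_facts τ).2.2 _ _ h with e | e
      · exact C.conj_in_fibre ha ha' (by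
          obtain ⟨v, hv⟩ := moved_x _ _ e
          exact ⟨v, by show M((C.π y)⁻¹) *ᵥ v + v + C.d y a = C.d y a'; rw [hx2, hy]; exact hv⟩)
      · have hcy : Cen C y c := by unfold Cen; rw [hc, hy]; exact x_rel.1
        have hmid : C.π (c * a * c⁻¹) = C.π y := by
          rw [C.π_conj (b := y) ha]; exact C.cen_π hcy
        refine (isConj_iff.2 ⟨c, rfl⟩ : IsConj a (c * a * c⁻¹)).trans (C.conj_in_fibre hmid ha' ?_)
        obtain ⟨v, hv⟩ := moved_x (C.d y (c * a * c⁻¹)) (C.d y a') (by
          rw [e, C.d_moved (a := y) hcy ha, q_add, hτ, hc, (vec_facts_x _).2.2.2.1])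
        exact ⟨v, by show M((C.π y)⁻¹) *ᵥ v + v + C.d y _ = C.d y a'; rw [hx2, hy]; exact hv⟩
    · change (if fb (C.d b a) = 0 then (0 : Fin 3) else 1) = if fb (C.d b a') = 0 then 0 else 1 at h
      have he : fb (C.d b a) = fb (C.d b a') := by
        revert h
        generalize fb (C.d b a) = p
        generalize fb (C.d b a') = p'
        revert p p'
        decide
      obtain ⟨v, hv⟩ := moved_b _ _ he
      refine C.conj_in_fibre ha ha' ⟨v, ?_⟩
      show M((C.π b)⁻¹) *ᵥ v + v + C.d b a = C.d b a'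
      rw [hb, inv_facts.1]
      exact hv
    · change (if fu (C.d u a) = 0 then (0 : Fin 3) else 1) = if fu (C.d u a') = 0 then 0 else 1 at h
      have he : fu (C.d u a) = fu (C.d u a') := by
        revert h
        generalize fu (C.d u a) = p
        generalize fu (C.d u a') = p'
        revert p p'
        decide
      obtain ⟨v, hv⟩ := moved_u _ _ he
      refine C.conj_in_fibre ha ha' ⟨v, ?_⟩
      show M((C.π u)⁻¹) *ᵥ v + v + C.d u a = C.d u a'
      rw [hu, inv_facts.2]
      exact hv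
  -- the nine names
  let N : Finset (Fin 4 × Fin 3) := Finset.univ.filter fun p => p.1 = 1 ∨ p.2 ≠ 2
  have hN : Nat.card N = 9 := by rw [Nat.card_eq_fintype_card, Fintype.card_coe]; decide
  have hreg : ∀ i, C.π (base i) ^ 7 ≠ 1 ∨ C.π (base i) = 1 := by
    intro i
    fin_cases i
    · exact Or.inr (map_one _)
    · exact Or.inl (show C.π y ^ 7 ≠ 1 by rw [hy]; decide +kernel)
    · exact Or.inl (show C.π b ^ 7 ≠ 1 by rw [hb]; decide +kernel)
    · exact Or.inl (show C.π u ^ 7 ≠ 1 by rw [hu]; decide +kernel)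
  have hex : ∀ p : N, ∃ a, C.π a = C.π (base p.1.1) ∧ inv p.1.1 (C.d (base p.1.1) a) = p.1.2 := by
    rintro ⟨⟨i, j⟩, hij⟩
    have hij' : i = 1 ∨ j ≠ 2 := (Finset.mem_filter.1 hij).2
    suffices h : ∃ v, inv i v = j by
      obtain ⟨v, hv⟩ := h
      obtain ⟨a, ha, hd⟩ := C.exists_d (base i) v
      exact ⟨a, ha, by rw [hd, hv]⟩
    fin_cases i
    · fin_cases j
      · exact ⟨0, show (if (0 : V3) = 0 then (0 : Fin 3) else 1) = 0 from if_pos rfl⟩
      · exact ⟨![1, 0, 0], show (if (![1, 0, 0] : V3) = 0 then (0 : Fin 3) else 1) = 1 from if_neg (by decide)⟩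
      · exact absurd rfl (hij'.resolve_left (by decide))
    · obtain ⟨p, hp⟩ := (phi_facts τ).1 j
      obtain ⟨v, hv⟩ := q_surj p
      exact ⟨v, by show phi τ (q v) = j; rw [hv, hp]⟩
    · fin_cases j
      · exact ⟨0, by show (if fb 0 = 0 then (0 : Fin 3) else 1) = 0; rfl⟩
      · exact ⟨![1, 0, 0], by show (if fb ![1, 0, 0] = 0 then (0 : Fin 3) else 1) = 1; rfl⟩
      · exact absurd rfl (hij'.resolve_left (by decide))
    · fin_cases j
      · exact ⟨0, by show (if fu 0 = 0 then (0 : Fin 3) else 1) = 0; rfl⟩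
      · exact ⟨![0, 0, 1], by show (if fu ![0, 0, 1] = 0 then (0 : Fin 3) else 1) = 1; rfl⟩
      · exact absurd rfl (hij'.resolve_left (by decide))
  choose rep hrep using hex
  let F : N → {c : ConjClasses J // ∃ g, ConjClasses.mk g = c ∧ ¬ 7 ∣ orderOf g} := fun p =>
    ⟨ConjClasses.mk (rep p), rep p, rfl, (C.order_iff _).2 (by rw [(hrep p).1]; exact hreg _)⟩
  have hF : Function.Bijective F := by
    constructor
    · intro p p' h
      obtain ⟨g, hg⟩ := isConj_iff.1 (ConjClasses.mk_eq_mk_iff_isConj.1 (congrArg Subtype.val h))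
      have hπ : C.π g * C.π (base p.1.1) = C.π (base p'.1.1) * C.π g := by
        have := congrArg C.π hg
        rw [map_mul, map_mul, map_inv, (hrep p).1, (hrep p').1, mul_inv_eq_iff_eq_mul] at this
        exact this
      have hi : p.1.1 = p'.1.1 := by
        revert hπ
        generalize p.1.1 = i
        generalize p'.1.1 = i'
        have hb' : ∀ i, C.π (base i) = ![1, mx, mb, mu] i := fun i => by
          fin_cases i
          · exact map_one _
          · exact hy
          · exact hb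
          · exact hu
        rw [hb', hb']
        generalize C.π g = m
        revert m i i'
        decide +kernel
      refine Subtype.ext (Prod.ext hi ?_)
      rw [← (hrep p).2, ← (hrep p').2, ← hg, hi]
      refine (hconst _ g _ ?_ ?_).symm
      · rw [(hrep p).1, hi]
      · rw [hi] at hπ; exact hπ
    · rintro ⟨_, g, rfl, hg⟩
      obtain ⟨m, hm⟩ := rep_cover _ ((C.order_iff g).1 hg)
      obtain ⟨h, rfl⟩ := C.π_surj m
      obtain ⟨i, hi⟩ : ∃ i, C.π (h * g * h⁻¹) = C.π (base i) := by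
        have e : ∀ r, C.π h * C.π g = r * C.π h → C.π (h * g * h⁻¹) = r := fun r hr => by
          rw [map_mul, map_mul, hr, map_inv, mul_inv_cancel_right]
        rcases hm with h' | h' | h' | h'
        · exact ⟨0, (e 1 (by rw [h', one_mul])).trans (map_one _).symm⟩
        · exact ⟨1, (e mx h').trans hy.symm⟩
        · exact ⟨2, (e mb h').trans hb.symm⟩
        · exact ⟨3, (e mu h').trans hu.symm⟩
      have hmem : (i, inv i (C.d (base i) (h * g * h⁻¹))) ∈ N := by
        refine Finset.mem_filter.2 ⟨Finset.mem_univ _, ?_⟩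
        by_cases h1 : i = 1
        · exact Or.inl h1
        · refine Or.inr ?_
          generalize C.d (base i) (h * g * h⁻¹) = v
          fin_cases i
          · show (if v = 0 then (0 : Fin 3) else 1) ≠ 2; split <;> decide
          · exact absurd rfl h1
          · show (if fb v = 0 then (0 : Fin 3) else 1) ≠ 2; split <;> decide
          · show (if fu v = 0 then (0 : Fin 3) else 1) ≠ 2; split <;> decide
      refine ⟨⟨_, hmem⟩, Subtype.ext (ConjClasses.mk_eq_mk_iff_isConj.2 ?_)⟩
      exact (hfull i _ _ (hrep ⟨_, hmem⟩).1 hi (hrep ⟨_, hmem⟩).2).trans (isConj_iff.2 ⟨h, rfl⟩ : IsConj g _).symm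
  rw [← Nat.card_congr (Equiv.ofBijective F hF), hN]

end CfsgLib.J4Classes.EightExt

namespace CfsgLib.J4Classes

/-- An extension of an elementary abelian group of order 8 by `L₃(2)` acting non-trivially has nine classes of
elements of order prime to 7. -/
theorem seven_regular_classes {J : Type*} [Group J] [Finite J] (E : Subgroup J) [E.Normal]
    (hE : Cfsg.IsElementaryAbelian 2 E) (hE8 : Nat.card E = 8)
    (hQ : Nonempty (J ⧸ E ≃* Matrix.SpecialLinearGroup (Fin 3) (ZMod 2))) (hnc : ¬ E ≤ Subgroup.center J) :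
    Nat.card {c : ConjClasses J // ∃ g, ConjClasses.mk g = c ∧ ¬ 7 ∣ orderOf g} = 9 := by
  obtain ⟨C⟩ := EightExt.exists_ctx E hE.1 hE.2 hE8 hQ hnc
  exact EightExt.count C

end CfsgLib.J4Classes
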