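/-
Janko-four type: nine classes of elements whose largest prime is 11 (seven over the first class of elements of
order 11, whose centraliser is `11^(1+2) : SL(2,3)`, and two over the second).
-/
import Cfsg.Agent.J4Classes.Count
import Cfsg.Agent.J4SylEleven.GL
import Cfsg.Agent.J4SylEleven.Second
import Cfsg.Agent.Solvable.Glauberman
import Mathlib.LinearAlgebra.Matrix.GeneralLinearGroup.Defs

set_option autoImplicit false
set_option linter.style.haveILetI false
set_option maxRecDepth 100000

namespace CfsgLib.J4Classes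

open Subgroup CfsgLib.J4Local CfsgLib.J4SylEleven
open scoped Pointwise

abbrev SL23 := Matrix.SpecialLinearGroup (Fin 2) (ZMod 3)

theorem sl23_squares : ∀ s : SL23, ∃ a b : SL23, s = a * a * (b * b) := by decide +kernel

theorem sl23_card : Nat.card SL23 = 24 := by
  rw [Nat.card_eq_fintype_card]; decide +kernel

theorem sl23_classes : Nat.card (ConjClasses SL23) = 7 := by
  rw [Nat.card_eq_fintype_card]; decide +kernel

/-- A subgroup of order 24 of `GL(2,3)` has seven classes. -/
theorem classes_index_two {K : Type*} [Group K] [Finite K] (e : K ≃* GL (Fin 2) (ZMod 3))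
    (hK : Nat.card K = 48) (H : Subgroup K) (hH : Nat.card H = 24) : Nat.card (ConjClasses H) = 7 := by
  let ι : SL23 →* K := e.symm.toMonoidHom.comp Matrix.SpecialLinearGroup.toGL
  have hι : Function.Injective ι := e.symm.injective.comp Matrix.SpecialLinearGroup.toGL_injective
  have hidx : H.index = 2 := by
    have h := H.card_mul_index
    rw [hK, hH] at h
    omega
  have hrange : ι.range = H := by
    refine Subgroup.eq_of_le_of_card_ge ?_ (le_of_eq ?_)
    · rintro _ ⟨s, rfl⟩
      obtain ⟨a, b, rfl⟩ := sl23_squares s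
      rw [map_mul, map_mul, map_mul]
      exact mul_mem (mul_self_mem_of_index_two hidx _) (mul_self_mem_of_index_two hidx _)
    · rw [hH, ← Nat.card_congr (MonoidHom.ofInjective hι).toEquiv, sl23_card]
  let f : SL23 ≃* H := (MonoidHom.ofInjective hι).trans (MulEquiv.subgroupCongr hrange)
  rw [← sl23_classes, ← cl_all, ← cl_all]
  exact (cl_equiv f fun _ => Iff.rfl).symm

variable {G : Type*} [Group G] [Finite G] {z : G} {P : Subgroup G}

/-- The centraliser of an element of order 11 of `C_H(P)` gives seven classes. -/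
theorem first_eleven {x : G} {U : Subgroup G} (B : Base z P x U) :
    cl ↥(centralizer ({x} : Set G)) (Small 11) = 7 := by
  classical
  obtain ⟨K, hK, ⟨e⟩⟩ := exists_gl B
  set C := centralizer ({x} : Set G) with hC
  set N := normalizer ((zpowers x : Subgroup G) : Set G)
  have hKc : Nat.card K = 48 := by
    rw [Nat.card_congr e.toEquiv, Matrix.card_GL_field]
    simp [Fin.prod_univ_two]
  set A := K ⊓ C with hAdef
  have hUn : C ≤ normalizer (U : Set G) := fun g hg => mem_normalizer_iff_map_conj_eq.2 (eq_of_le_of_card_ge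
    (by
      rintro _ ⟨u, hu, rfl⟩
      exact B.conj_mem_U (((CfsgLib.J4Large.cent_zpowers x).ge.trans (centralizer_le_normalizer _)) hg) hu)
    (by rw [Subgroup.card_map_of_injective (MulAut.conj g).injective]))
  -- `A` has order 24
  have hAdvd : Nat.card A ∣ 24 := by
    have h1 := Subgroup.card_dvd_of_le (inf_le_left : A ≤ K)
    have h2 := Subgroup.card_dvd_of_le (inf_le_right : A ≤ C)
    rw [hKc] at h1
    rw [B.cardCent] at h2
    exact (Nat.dvd_gcd h1 h2).trans (by norm_num)
  have hAU : A ⊓ U = ⊥ := Subgroup.inf_eq_bot_of_coprime (by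
    rw [B.cardU]; exact Nat.Coprime.coprime_dvd_left hAdvd (by norm_num))
  have hA24 : Nat.card A = 24 := by
    -- the automizer of `⟨x⟩` is cyclic, so `A` contains the derived group
    refine Nat.dvd_antisymm hAdvd ?_
    let φ : ↥K →* MulAut ↥(zpowers x) :=
      (Subgroup.normalizerMonoidHom (zpowers x)).comp (Subgroup.inclusion (hK.trans inf_le_right))
    have hker : φ.ker = A.subgroupOf K := by
      rw [show φ.ker = _ from (MonoidHom.comap_ker _ _).symm, Subgroup.normalizerMonoidHom_ker]
      ext k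
      simp only [mem_comap, mem_subgroupOf, Subgroup.coe_inclusion, hAdef, Subgroup.mem_inf, SetLike.coe_mem,
        true_and, hC, CfsgLib.J4Large.cent_zpowers]
    haveI : IsCyclic ↥(zpowers x) := inferInstance
    have hcomm : ∀ a b : MulAut ↥(zpowers x), a * b = b * a := by
      intro a b
      obtain ⟨g, hg⟩ := IsCyclic.exists_generator (α := ↥(zpowers x))
      refine MulEquiv.ext fun y => ?_
      obtain ⟨i, hi⟩ := mem_zpowers_iff.1 (hg (a g))
      obtain ⟨j, hj⟩ := mem_zpowers_iff.1 (hg (b g))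
      obtain ⟨k, rfl⟩ := mem_zpowers_iff.1 (hg y)
      rw [MulAut.mul_apply, MulAut.mul_apply, map_zpow, map_zpow, map_zpow, map_zpow, ← hi, ← hj, map_zpow, map_zpow,
        ← hi, ← hj]
      simp only [← zpow_mul]
      congr 1
      ring
    have hcard : 24 ∣ Nat.card φ.ker := by
      let ψ : SL23 →* MulAut ↥(zpowers x) :=
        φ.comp (e.symm.toMonoidHom.comp Matrix.SpecialLinearGroup.toGL)
      -- orders in the automorphism group divide 10
      have h10 : ∀ a : MulAut ↥(zpowers x), a ^ 10 = 1 := by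
        intro a
        rw [← orderOf_dvd_iff_pow_eq_one]
        refine (orderOf_dvd_natCard a).trans (dvd_of_eq ?_)
        rw [IsCyclic.card_mulAut, Nat.card_zpowers, B.ord, Nat.totient_prime (by norm_num)]
      have hgen : ∀ s : SL23, (∃ a b : SL23, a ^ 3 = 1 ∧ b ^ 3 = 1 ∧ s = a * b) ∨
          ∃ c d : SL23, s = c * d * c⁻¹ * d⁻¹ := by decide +kernel
      have hψ : ∀ s, ψ s = 1 := by
        intro s
        have h3 : ∀ t : SL23, t ^ 3 = 1 → ψ t = 1 := fun t ht => by
          have e3 : ψ t ^ 3 = 1 := by rw [← map_pow, ht, map_one]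
          have := h10 (ψ t)
          rw [show 10 = 3 * 3 + 1 by rfl, pow_succ, pow_mul, e3, one_pow, one_mul] at this
          exact this
        rcases hgen s with ⟨a, b, ha, hb, rfl⟩ | ⟨c, d, rfl⟩
        · rw [map_mul, h3 a ha, h3 b hb, one_mul]
        · rw [map_mul, map_mul, map_mul, hcomm (ψ c), mul_assoc (ψ d), map_inv, map_inv, mul_inv_cancel, mul_one,
            mul_inv_cancel]
      have hle : (e.symm.toMonoidHom.comp Matrix.SpecialLinearGroup.toGL).range ≤ φ.ker := by
        rintro _ ⟨s, rfl⟩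
        exact hψ s
      have := Subgroup.card_dvd_of_le hle
      rwa [← Nat.card_congr (MonoidHom.ofInjective
        (e.symm.injective.comp Matrix.SpecialLinearGroup.toGL_injective)).toEquiv, sl23_card] at this
    rwa [hker, Nat.card_congr (subgroupOfEquivOfLe inf_le_left).toEquiv] at hcard
  have hsup : A ⊔ U = C := by
    refine eq_of_le_of_card_ge (sup_le inf_le_right B.le) ?_
    have h := CfsgLib.Solvable.card_sup_mul_card_inf (inf_le_right.trans hUn : A ≤ normalizer (U : Set G))
    rw [hAU, hA24, B.cardU, Subgroup.card_bot, mul_one] at h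
    rw [h, B.cardCent]
  -- classes of `A`
  have h7 : cl ↥A (fun _ => True) = 7 := by
    rw [cl_all]
    have h := classes_index_two e hKc (A.subgroupOf K)
      (by rw [Nat.card_congr (subgroupOfEquivOfLe inf_le_left).toEquiv, hA24])
    rw [← h, ← cl_all, ← cl_all]
    exact cl_equiv (subgroupOfEquivOfLe inf_le_left).symm fun _ => Iff.rfl
  rw [← h7]
  have hAC : A ≤ C := inf_le_right
  refine cl_map (Subgroup.inclusion hAC) (fun a _ q hq hd => ?_)
    (fun a a' _ h => (Subgroup.inclusion hAC).map_isConj h) (fun a a' _ _ h => ?_) (fun g hg => ?_)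
  · rw [orderOf_injective _ (inclusion_injective hAC) a] at hd
    have h := hd.trans (orderOf_dvd_natCard a)
    rw [hA24] at h
    have := Nat.le_of_dvd (by norm_num) h
    rcases Nat.lt_or_ge q 11 with h11 | h11
    · exact h11
    · interval_cases q <;> revert h <;> revert hq <;> norm_num
  · obtain ⟨⟨c, hc⟩, hconj⟩ := isConj_iff.1 h
    have hconj' : c * (a : G) * c⁻¹ = a' := congrArg Subtype.val hconj
    rw [← hsup, sup_comm] at hc
    obtain ⟨a0, ha0, u, hu, rfl⟩ := (CfsgLib.Solvable.mem_sup_of_le_normalizer (inf_le_right.trans hUn)).1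
      (sup_comm U A ▸ hc)
    refine isConj_iff.2 ⟨⟨a0, ha0⟩, Subtype.ext ?_⟩
    show a0 * (a : G) * a0⁻¹ = a'
    have hu' : (a : G)⁻¹ * (u * a * u⁻¹) ∈ U := by
      rw [show (a : G)⁻¹ * (u * a * u⁻¹) = ((a : G)⁻¹ * u * a) * u⁻¹ by group]
      refine mul_mem ?_ (inv_mem hu)
      have := (mem_normalizer_iff.1 (inf_le_right.trans hUn (inv_mem a.2)) u).1 hu
      rwa [inv_inv] at this
    have hA' : (a : G)⁻¹ * (u * a * u⁻¹) ∈ A := by
      rw [show u * (a : G) * u⁻¹ = a0⁻¹ * a' * a0 by rw [← hconj']; group]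
      exact mul_mem (inv_mem a.2) (mul_mem (mul_mem (inv_mem ha0) a'.2) ha0)
    have h1 : (a : G)⁻¹ * (u * a * u⁻¹) = 1 := by
      have : (a : G)⁻¹ * (u * a * u⁻¹) ∈ A ⊓ U := ⟨hA', hu'⟩
      rwa [hAU, mem_bot] at this
    rw [inv_mul_eq_one] at h1
    rw [← hconj', show a0 * u * (a : G) * (a0 * u)⁻¹ = a0 * (u * a * u⁻¹) * a0⁻¹ by group, ← h1]
  · have hgc : (Nat.card (zpowers (g : G))).Coprime (Nat.card U) := by
      rw [Nat.card_zpowers, B.cardU, show (1331 : ℕ) = 11 ^ 3 by norm_num]
      refine (((Nat.Prime.coprime_iff_not_dvd (by norm_num : Nat.Prime 11)).2 fun h => ?_).symm).pow_right _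
      exact lt_irrefl 11 (hg 11 (by norm_num) (by rwa [Subgroup.orderOf_coe] at h))
    haveI : Fact (Nat.Prime 11) := ⟨by norm_num⟩
    obtain ⟨k, hk, hle⟩ := CfsgLib.SZ.conj_le (A := A) (K := U) (U := zpowers (g : G)) (inf_le_right.trans hUn)
      (by rw [hA24, B.cardU]; norm_num)
      (Or.inr (haveI := (IsPGroup.of_card (p := 11) (n := 3) (G := U) (by rw [B.cardU]; norm_num)).isNilpotent
               inferInstance))
      (by rw [hsup, zpowers_le]; exact g.2) hgc
    have hmem : k * (g : G) * k⁻¹ ∈ A := hle (Subgroup.smul_mem_pointwise_smul _ _ _ (mem_zpowers _))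
    exact ⟨⟨_, hmem⟩, trivial, isConj_iff.2 ⟨⟨k, B.le hk⟩, Subtype.ext rfl⟩⟩

theorem top_eleven_of [IsSimpleGroup G] (hG : ¬ IsMulCommutative G) (hI : CfsgLib.J4Large.Inputs z P)
    (htwoCl : ∃ a b : G, orderOf a = 11 ∧ orderOf b = 11 ∧ ¬ IsConj a b ∧
      ∀ g : G, orderOf g = 11 → IsConj g a ∨ IsConj g b)
    (hexp : ∀ g : G, ¬ 11 ^ 2 ∣ orderOf g) : cl G (Top 11) = 9 := by
  classical
  haveI : Fact (Nat.Prime 11) := ⟨by norm_num⟩
  haveI : Fact (Nat.Prime 2) := ⟨Nat.prime_two⟩
  have hJz : Cfsg.IsOfJankoFourTypeAt z := ⟨P, hI.type⟩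
  obtain ⟨x, U, B⟩ := exists_base hI
  -- the second element
  obtain ⟨t, ht, htz⟩ := exists_second hG hJz
  obtain ⟨w, hwt, hwo⟩ := exists_eleven_second hG hJz ht htz
  have htw : Commute t w := (mem_centralizer_singleton_iff.1 hwt).symm
  have hnox : ∀ m : G, m * w * m⁻¹ ∈ zpowers x → False := by
    intro m hm
    have hxm : x ∈ zpowers (m * w * m⁻¹) := by
      have e : zpowers (m * w * m⁻¹) = zpowers x := eq_of_le_of_card_ge (zpowers_le.2 hm) (by
        rw [Nat.card_zpowers, Nat.card_zpowers, B.ord,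
          show orderOf (m * w * m⁻¹) = 11 from (MulEquiv.orderOf_eq (MulAut.conj m) w).trans hwo])
      rw [e]; exact mem_zpowers x
    have hu : m * t * m⁻¹ ∈ centralizer ({x} : Set G) := by
      obtain ⟨i, hi⟩ := mem_zpowers_iff.1 hxm
      rw [mem_centralizer_singleton_iff, ← hi]
      exact (((Commute.conj_iff m).2 htw).zpow_right i).eq
    obtain ⟨c, -, hc⟩ := invol_cent_x hI B.memC B.ord hu ((MulEquiv.orderOf_eq (MulAut.conj m) t).trans ht)
    exact htz (IsConj.trans (isConj_iff.2 ⟨m, rfl⟩) (isConj_iff.2 ⟨c, hc⟩)).symm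
  have hne : ¬ IsConj w x := fun h => by
    obtain ⟨m, hm⟩ := isConj_iff.1 h
    exact hnox m (hm.symm ▸ mem_zpowers x)
  -- two classes over the second element
  have htwo : cl ↥(centralizer ({w} : Set G)) (Small 11) = 2 := by
    set C := centralizer ({w} : Set G) with hC
    have h3 : ¬ 3 ∣ Nat.card C := fun h => by
      obtain ⟨m, hm⟩ := conj_of_three hI B.memC.1 B.ord hwo h
      exact hnox m hm
    have hdvd : Nat.card C ∣ 8 * 11 ^ 3 := by
      have h := cent_dvd hI hwo
      rw [show 24 * 1331 = 3 * (8 * 11 ^ 3) by norm_num] at h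
      exact ((Nat.prime_three.coprime_iff_not_dvd).2 h3).symm.dvd_of_dvd_mul_left h
    let tC : C := ⟨t, mem_centralizer_singleton_iff.2 htw.eq⟩
    have htC : orderOf tC = 2 := by rw [Subgroup.orderOf_mk, ht]
    obtain ⟨S, hS⟩ := (IsPGroup.of_card (p := 2) (n := 1) (G := zpowers tC)
      (by rw [Nat.card_zpowers, htC, pow_one])).exists_le_sylow
    have h22 := card_cent_second_eleven hG hJz ht htz hwt hwo
    -- inside `S` only `⟨t⟩` centralises `t`
    have hcomm : ∀ s : C, s ∈ (S : Subgroup C) → s * tC = tC * s → s ∈ zpowers tC := by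
      intro s hs hst
      set T := (S : Subgroup C) ⊓ centralizer ({tC} : Set C)
      have hsT : s ∈ T := ⟨hs, mem_centralizer_singleton_iff.2 hst⟩
      have hTle : T.map C.subtype ≤ centralizer ({t} : Set G) ⊓ centralizer ({w} : Set G) := by
        rintro _ ⟨a, ha, rfl⟩
        exact ⟨mem_centralizer_singleton_iff.2 (congrArg Subtype.val (mem_centralizer_singleton_iff.1 ha.2)), a.2⟩
      have hT22 : Nat.card T ∣ 22 := by
        have := Subgroup.card_dvd_of_le hTle
        rwa [h22, Subgroup.card_map_of_injective C.subtype_injective] at this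
      obtain ⟨k, hk⟩ := IsPGroup.iff_card.1 (S.2.to_le (inf_le_left : T ≤ S))
      have hk1 : k ≤ 1 := by
        by_contra hne
        have h4 := ((pow_dvd_pow 2 (by omega : 2 ≤ k)).trans (hk ▸ dvd_refl (Nat.card T))).trans hT22
        norm_num at h4
      have hle : zpowers tC ≤ T := zpowers_le.2 ⟨hS (mem_zpowers _), mem_centralizer_singleton_iff.2 rfl⟩
      have heq : zpowers tC = T := eq_of_le_of_card_ge hle (by
        rw [Nat.card_zpowers, htC, hk]
        calc 2 ^ k ≤ 2 ^ 1 := Nat.pow_le_pow_right two_pos hk1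
          _ = 2 := pow_one 2)
      rw [heq]; exact hsT
    have hSeq : (S : Subgroup C) = zpowers tC := by
      refine le_antisymm (fun s hs => hcomm s hs ?_) hS
      haveI : Nontrivial (S : Subgroup C) := ⟨⟨⟨tC, hS (mem_zpowers _)⟩, 1, fun e => by
        have := congrArg (fun a : (S : Subgroup C) => (a : C)) e
        simp only [Subgroup.coe_one] at this
        rw [this, orderOf_one] at htC
        norm_num at htC⟩⟩
      haveI := S.2.center_nontrivial
      obtain ⟨⟨⟨c, hcS⟩, hc⟩, hc1⟩ := exists_ne (1 : Subgroup.center (S : Subgroup C))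
      have hct : c ∈ zpowers tC := hcomm c hcS
        (congrArg Subtype.val (Subgroup.mem_center_iff.1 hc ⟨tC, hS (mem_zpowers _)⟩)).symm
      have hc' : c = tC := by
        obtain ⟨i, hi⟩ := mem_zpowers_iff.1 hct
        rw [← hi, ← zpow_mod_orderOf, htC]
        rcases Int.emod_two_eq i with h | h
        · exfalso
          refine hc1 (Subtype.ext (Subtype.ext ?_))
          show c = 1
          rw [← hi, ← zpow_mod_orderOf, htC, show i % ((2 : ℕ) : ℤ) = 0 from h, zpow_zero]
        · rw [show i % ((2 : ℕ) : ℤ) = 1 from h, zpow_one]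
      exact hc' ▸ congrArg Subtype.val (Subgroup.mem_center_iff.1 hc ⟨s, hs⟩)
    have hS2 : Nat.card (S : Subgroup C) = 2 := by rw [hSeq, Nat.card_zpowers, htC]
    rw [cl_reps (ι := Fin 2) (P := Small 11) ![1, tC] (fun i => ?_) (fun i j h => ?_) (fun g hg => ?_), Nat.card_fin]
    · intro q hq hd
      fin_cases i
      · change q ∣ orderOf (1 : C) at hd
        rw [orderOf_one] at hd
        exact absurd (Nat.dvd_one.1 hd) hq.one_lt.ne'
      · change q ∣ orderOf tC at hd
        rw [htC] at hd
        have := Nat.le_of_dvd two_pos hd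
        omega
    · have h2 := orderOf_of_isConj h
      fin_cases i <;> fin_cases j
      · rfl
      · exfalso; change orderOf tC = orderOf (1 : C) at h2; rw [htC, orderOf_one] at h2; norm_num at h2
      · exfalso; change orderOf (1 : C) = orderOf tC at h2; rw [htC, orderOf_one] at h2; norm_num at h2
      · rfl
    · have h8 : orderOf g ∣ 2 ^ 3 := by
        refine Nat.Coprime.dvd_of_dvd_mul_right ?_ ((orderOf_dvd_natCard g).trans hdvd)
        exact ((Nat.Prime.coprime_iff_not_dvd (by norm_num : Nat.Prime 11)).2 fun h =>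
          lt_irrefl 11 (hg 11 (by norm_num) h)).symm.pow_right _
      obtain ⟨k, -, hk⟩ := (Nat.dvd_prime_pow Nat.prime_two).1 h8
      obtain ⟨T, hT⟩ := (IsPGroup.of_card (p := 2) (n := k) (G := zpowers g)
        (by rw [Nat.card_zpowers, hk])).exists_le_sylow
      obtain ⟨c, hc⟩ := MulAction.exists_smul_eq C T S
      have hm : c * g * c⁻¹ ∈ zpowers tC := by
        rw [← hSeq, ← hc]; exact ⟨g, hT (mem_zpowers g), rfl⟩
      obtain ⟨i, hi⟩ := mem_zpowers_iff.1 hm
      rw [← zpow_mod_orderOf, htC] at hi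
      rcases Int.emod_two_eq i with h | h
      · rw [show i % ((2 : ℕ) : ℤ) = 0 from h, zpow_zero] at hi
        exact ⟨0, isConj_iff.2 ⟨c, hi.symm⟩⟩
      · rw [show i % ((2 : ℕ) : ℤ) = 1 from h, zpow_one] at hi
        exact ⟨1, isConj_iff.2 ⟨c, hi.symm⟩⟩
  -- assemble
  obtain ⟨a, b, ha, hb, -, hall⟩ := htwoCl
  have hcov : ∀ g : G, orderOf g = 11 → IsConj g x ∨ IsConj g w := by
    intro g hg
    rcases hall x B.ord with h1 | h1 <;> rcases hall w hwo with h2 | h2 <;> rcases hall g hg with h3 | h3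
    all_goals first
      | exact Or.inl (h3.trans h1.symm)
      | exact Or.inr (h3.trans h2.symm)
      | exact absurd (h2.trans h1.symm) hne
  rw [cl_top (ι := Fin 2) (by norm_num : Nat.Prime 11) hexp ![x, w] (fun i => ?_) (fun i j h => ?_)
    (fun g hg => ?_), Fin.sum_univ_two]
  · show cl ↥(centralizer ({x} : Set G)) (Small 11) + cl ↥(centralizer ({w} : Set G)) (Small 11) = 9
    rw [first_eleven B, htwo]
  · fin_cases i
    · exact B.ord
    · exact hwo
  · fin_cases i <;> fin_cases j
    · rfl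
    · exact absurd (show IsConj x w from h).symm hne
    · exact absurd (show IsConj w x from h) hne
    · rfl
  · exact (hcov g hg).elim (fun h => ⟨0, h⟩) fun h => ⟨1, h⟩

end CfsgLib.J4Classes
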