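/-
Janko-four type: nine classes of elements whose largest prime is 11.
-/
import Cfsg.Agent.J4Classes.ElevenBase
import Cfsg.Agent.J4SylEleven.Top
import Cfsg.Agent.J4Local.Order.OrderMain
import Cfsg.Agent.S5575
import Cfsg.Agent.S5576

set_option autoImplicit false

namespace CfsgLib.J4Classes

open Subgroup

theorem top_eleven {G : Type*} [Group G] [Finite G] [IsSimpleGroup G] (hG : ¬ IsMulCommutative G)
    (hJ : Cfsg.IsOfJankoFourType G) : cl G (Top 11) = 9 := by
  haveI : Fact (Nat.Prime 11) := ⟨by norm_num⟩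
  obtain ⟨z, P, hP⟩ := hJ
  have hexp : ∀ g : G, ¬ 11 ^ 2 ∣ orderOf g := by
    intro g hd
    set y := g ^ (orderOf g / 11 ^ 2)
    have hy : orderOf y = 11 ^ 2 := orderOf_pow_orderOf_div (orderOf_pos g).ne' hd
    obtain ⟨T, hT⟩ := (IsPGroup.of_card (p := 11) (n := 2) (G := zpowers y)
      (by rw [Nat.card_zpowers, hy])).exists_le_sylow
    have h := (Cfsg.Agent.S5575.result hG ⟨z, P, hP⟩ T).2.2.1
    have h2 := Monoid.order_dvd_exponent (⟨y, hT (mem_zpowers y)⟩ : (T : Subgroup G))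
    rw [h, Subgroup.orderOf_mk, hy] at h2
    norm_num at h2
  exact top_eleven_of hG (CfsgLib.J4SylEleven.inputs_of_order hG hP (CfsgLib.J4Order.order_of_type ⟨P, hP⟩))
    (Cfsg.Agent.S5576.result hG ⟨z, P, hP⟩) hexp

end CfsgLib.J4Classes
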