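/-
Janko-four type: the centraliser of an element of order 5 has nine classes of elements whose orders involve only
the primes 2 and 3.
-/
import Cfsg.Agent.J4Classes.EightExtClasses
import Cfsg.Agent.J4Classes.Count
import Cfsg.Agent.J4Local.FiveFinal

set_option autoImplicit false
set_option linter.style.haveILetI false

namespace CfsgLib.J4Classes

open Subgroup CfsgLib.J4Local

variable {G : Type*} [Group G] [Finite G]

theorem card_zCent_five {z f : G} {P : Subgroup G} (hJ : Cfsg.IsOfJankoFourTypeWith z P) (hf : f ∈ cH z)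
    (ho : orderOf f = 5) : Nat.card ↥(cH z ⊓ centralizer ({f} : Set G)) = 960 := by
  obtain ⟨f₀, x, a, hf₀, ho₀, hx, hxC, hxf, -⟩ := CfsgLib.J4Twist.exists_twist hJ
  obtain ⟨h, hh, e⟩ := CfsgLib.J4FiveLocal.exists_conj_five hJ hf₀.1 ho₀ (zpowers f)
    (by rw [Nat.card_zpowers, ho]) (zpowers_le.2 hf)
  have hinj : Function.Injective (MulAut.conj h).toMonoidHom := (MulAut.conj h).injective
  have hHfix : (cH z).map (MulAut.conj h).toMonoidHom = cH z := mem_normalizer_iff_map_conj_eq.1 (le_normalizer hh)
  have hc := congrArg (fun S : Subgroup G => centralizer (S : Set G)) e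
  simp only [CfsgLib.J4FiveLocal.centralizer_map_equiv, CfsgLib.J4Five.centralizer_zpowers] at hc
  rw [hc, ← hHfix, ← Subgroup.map_inf _ _ _ hinj, Subgroup.card_map_of_injective hinj]
  exact CfsgLib.J4FiveLocal.card_CH hJ hf₀ ho₀ hx hxC hxf

/-- The classes of `{2, 3}`-elements of the centraliser of an element of order 5 are nine in number. -/
theorem five_centraliser_classes [IsSimpleGroup G] (hG : ¬ IsMulCommutative G) {z f : G} {P : Subgroup G}
    (hJ : Cfsg.IsOfJankoFourTypeWith z P) (hf : f ∈ cH z) (ho : orderOf f = 5) :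
    cl ↥(centralizer ({f} : Set G)) (Small 5) = 9 := by
  classical
  haveI : Fact (Nat.Prime 5) := ⟨by norm_num⟩
  haveI : Fact (Nat.Prime 2) := ⟨Nat.prime_two⟩
  obtain ⟨-, ⟨J, hJd, E, hEn, hE, hE8, ⟨Φ⟩, -⟩, -, -⟩ := CfsgLib.J4FiveLocal.five_structure hG hJ (zpowers f)
    (by rw [Nat.card_zpowers, ho]) (zpowers_le.2 hf)
  rw [CfsgLib.J4Five.centralizer_zpowers] at hJd
  obtain ⟨hQC, hJC, hcomm, hinf, hsup⟩ := hJd
  set C := centralizer ({f} : Set G) with hC
  have hJcard : Nat.card J = 1344 := by
    have h1 := E.card_eq_card_quotient_mul_card_subgroup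
    rw [Nat.card_congr Φ.toEquiv, hE8, CfsgLib.J4FiveGen.card_SL32] at h1
    exact h1
  let μ : ↥(zpowers f) × ↥J →* ↥C :=
    { toFun := fun p => ⟨(p.1 : G) * p.2, mul_mem (hQC p.1.2) (hJC p.2.2)⟩
      map_one' := Subtype.ext (one_mul 1)
      map_mul' := fun p q => Subtype.ext (by
        show ((p.1 : G) * q.1) * ((p.2 : G) * q.2) = (p.1 : G) * p.2 * ((q.1 : G) * q.2)
        rw [mul_assoc, ← mul_assoc (q.1 : G), hcomm q.1 q.1.2 p.2 p.2.2, mul_assoc, ← mul_assoc (p.1 : G)]
        ) }
  have hμi : Function.Injective μ := by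
    rw [injective_iff_map_eq_one]
    rintro ⟨a, b⟩ h
    have h' : (a : G) * b = 1 := congrArg Subtype.val h
    have hb : (b : G) ∈ zpowers f ⊓ J := ⟨by rw [← inv_eq_of_mul_eq_one_right h']; exact Subgroup.inv_mem _ a.2, b.2⟩
    rw [hinf, mem_bot] at hb
    rw [hb, mul_one] at h'
    exact Prod.ext (Subtype.ext h') (Subtype.ext hb)
  have hμs : Function.Surjective μ := by
    rintro ⟨c, hc⟩
    rw [← hsup] at hc
    have hn : J ≤ normalizer (zpowers f : Set G) := fun b hb => mem_normalizer_iff.2 fun a => by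
      constructor
      · intro ha; rw [← hcomm a ha b hb, mul_inv_cancel_right]; exact ha
      · intro ha
        have e := hcomm _ ha b hb
        have e' : a = b * a * b⁻¹ := by
          calc a = b⁻¹ * (b * a * b⁻¹ * b) := by group
            _ = b⁻¹ * (b * (b * a * b⁻¹)) := by rw [e]
            _ = b * a * b⁻¹ := by group
        rw [e']; exact ha
    rw [sup_comm] at hc
    obtain ⟨b, hb, a, ha, rfl⟩ := (CfsgLib.Solvable.mem_sup_of_le_normalizer hn).mp hc
    exact ⟨(⟨a, ha⟩, ⟨b, hb⟩), Subtype.ext (hcomm a ha b hb)⟩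
  have hCcard : Nat.card C = 6720 := by
    rw [← Nat.card_congr (Equiv.ofBijective μ ⟨hμi, hμs⟩), Nat.card_prod, hJcard, Nat.card_zpowers, ho]
  -- the action on `E` is not trivial
  have hnc : ¬ E ≤ Subgroup.center J := by
    intro hcen
    have h960 := card_zCent_five hJ hf ho
    have hzC : z ∈ C := mem_centralizer_singleton_iff.2 (mem_cH.1 hf).symm
    obtain ⟨⟨a, b⟩, hab⟩ := hμs ⟨z, hzC⟩
    have hab' : (a : G) * b = z := congrArg Subtype.val hab
    have hz2 : z * z = 1 := CfsgLib.J4Twist.zz hJ
    have hpair : (a, b) * (a, b) = 1 := hμi (by rw [map_mul, map_one, hab]; exact Subtype.ext hz2)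
    have ha1 : a = 1 := by
      have h5 : a ^ 5 = 1 := Subtype.ext (by
        obtain ⟨i, hi⟩ := mem_zpowers_iff.1 a.2
        rw [Subgroup.coe_pow, ← hi, ← zpow_natCast, ← zpow_mul, mul_comm, zpow_mul, zpow_natCast, ← ho,
          pow_orderOf_eq_one, one_zpow, Subgroup.coe_one])
      have h2 : a * a = 1 := congrArg Prod.fst hpair
      rw [show a ^ 5 = (a * a) * (a * a) * a by simp only [pow_succ, pow_zero, one_mul, mul_assoc], h2, one_mul,
        one_mul] at h5
      exact h5
    rw [ha1, Subgroup.coe_one, one_mul] at hab'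
    -- the centraliser of `b` in `J`
    have hCb : Nat.card (centralizer ({b} : Set J)) = 192 := by
      have hpre : (cH z ⊓ C).subgroupOf C =
          ((⊤ : Subgroup ↥(zpowers f)).prod (centralizer ({b} : Set J))).map μ := by
        ext ⟨c, hc⟩
        obtain ⟨⟨q, j⟩, hqj⟩ := hμs ⟨c, hc⟩
        rw [← hqj]
        refine Iff.trans ?_ (Subgroup.mem_map_iff_mem hμi).symm
        rw [mem_subgroupOf, Subgroup.mem_inf, Subgroup.mem_prod]
        have hqb : (q : G) * b = b * q := hcomm q q.2 b b.2
        simp only [Subgroup.mem_top, true_and, mem_centralizer_singleton_iff]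
        constructor
        · rintro ⟨h1, -⟩
          have h1' : (q : G) * j * b = b * ((q : G) * j) := by rw [hab']; exact h1
          refine Subtype.ext (mul_left_cancel (a := (q : G)) ?_)
          rw [Subgroup.coe_mul, Subgroup.coe_mul, ← mul_assoc, ← mul_assoc, h1', ← mul_assoc, hqb]
        · intro h1
          have h1' : (j : G) * b = b * j := congrArg Subtype.val h1
          refine ⟨?_, (μ (q, j)).2⟩
          show (q : G) * j * z = z * ((q : G) * j)
          rw [← hab', mul_assoc, h1', ← mul_assoc, hqb, mul_assoc]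
      have h := congrArg (fun S : Subgroup C => Nat.card S) hpre
      simp only [Subgroup.card_map_of_injective hμi, Nat.card_congr (Subgroup.prodEquiv _ _).toEquiv,
        Nat.card_prod, Nat.card_congr (Subgroup.topEquiv).toEquiv, Nat.card_zpowers, ho] at h
      rw [Nat.card_congr (subgroupOfEquivOfLe (inf_le_right : cH z ⊓ C ≤ C)).toEquiv] at h
      have h' : Nat.card ↥(cH z ⊓ C) = 960 := h960
      omega
    by_cases hbE : b ∈ E
    · have hall : centralizer ({b} : Set J) = ⊤ := top_unique fun j _ =>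
        mem_centralizer_singleton_iff.2 (Subgroup.mem_center_iff.1 (hcen hbE) j)
      rw [hall, Subgroup.card_top, hJcard] at hCb
      omega
    · set ψ : J →* CfsgLib.FiLarge.Eight.SL32 := Φ.toMonoidHom.comp (QuotientGroup.mk' E) with hψ
      have hker : ψ.ker = E := by
        ext j
        rw [MonoidHom.mem_ker, hψ, MonoidHom.comp_apply]
        exact (map_eq_one_iff Φ Φ.injective).trans (QuotientGroup.eq_one_iff j)
      have hm : ψ b ≠ 1 := fun e => hbE (hker ▸ MonoidHom.mem_ker.2 e)
      have hm2 : ψ b * ψ b = 1 := by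
        rw [← map_mul, show b * b = 1 from congrArg Prod.snd hpair, map_one]
      have key : ∀ m : CfsgLib.FiLarge.Eight.SL32, m * m = 1 → m ≠ 1 →
          (Finset.univ.filter fun g => g * m = m * g).card ≤ 8 := by decide +kernel
      set T := centralizer ({b} : Set J)
      have hET : E ≤ T := fun e he => mem_centralizer_singleton_iff.2 ((Subgroup.mem_center_iff.1 (hcen he) b)).symm
      have hcard : Nat.card T = Nat.card E * Nat.card (T.map ψ) := by
        have h := (ψ.comp T.subtype).ker.card_eq_card_quotient_mul_card_subgroup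
        rw [Nat.card_congr (QuotientGroup.quotientKerEquivRange _).toEquiv, MonoidHom.range_comp, T.range_subtype,
          ← MonoidHom.comap_ker, hker] at h
        rw [h, mul_comm]
        congr 1
        exact Nat.card_congr (subgroupOfEquivOfLe hET).toEquiv
      have hle : Nat.card (T.map ψ) ≤ 8 := by
        refine le_trans ?_ (key _ hm2 hm)
        rw [← Fintype.card_coe, ← Nat.card_eq_fintype_card]
        refine Nat.card_le_card_of_injective (fun g => ⟨g.1, Finset.mem_filter.2 ⟨Finset.mem_univ _, ?_⟩⟩)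
          fun g g' e => Subtype.ext (congrArg (fun w => w.1) e)
        obtain ⟨j, hj, e⟩ := g.2
        rw [← e, ← map_mul, ← map_mul, mem_centralizer_singleton_iff.1 hj]
      rw [hCb, hE8] at hcard
      omega
  -- transport the count
  have h7J : cl J (fun j => ¬ 7 ∣ orderOf j) = 9 := seven_regular_classes E hE hE8 ⟨Φ⟩ hnc
  rw [← h7J]
  let ι : J →* C := Subgroup.inclusion hJC
  have hι : ∀ j, ι j = μ (1, j) := fun j => Subtype.ext (one_mul _).symm
  refine cl_map ι (fun j h7 r hr hd => ?_) (fun a a' _ h => ι.map_isConj h) (fun a a' _ _ h => ?_) (fun g hg => ?_)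
  · rw [orderOf_injective ι (inclusion_injective hJC) j] at hd
    have hd' := hd.trans (orderOf_dvd_natCard j)
    rw [hJcard, show (1344 : ℕ) = 2 ^ 6 * 3 * 7 by norm_num] at hd'
    rcases hr.dvd_mul.1 hd' with h | h
    · rcases hr.dvd_mul.1 h with h | h
      · have := Nat.le_of_dvd two_pos (hr.dvd_of_dvd_pow h); omega
      · have := Nat.le_of_dvd three_pos h; omega
    · rw [(Nat.prime_dvd_prime_iff_eq hr (by norm_num)).1 h] at hd
      exact absurd hd h7
  · obtain ⟨w, hg⟩ := isConj_iff.1 h
    obtain ⟨⟨q, k⟩, rfl⟩ := hμs w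
    rw [hι, hι, ← map_inv, ← map_mul, ← map_mul] at hg
    exact isConj_iff.2 ⟨k, congrArg Prod.snd (hμi hg)⟩
  · obtain ⟨⟨q, j⟩, rfl⟩ := hμs g
    have ho' : orderOf (μ (q, j)) = Nat.lcm (orderOf q) (orderOf j) := by
      rw [orderOf_injective μ hμi, Prod.orderOf]
    have hq : q = 1 := by
      by_contra hne
      have hd : orderOf q ∣ 5 := by
        have := orderOf_dvd_natCard q
        rwa [Nat.card_zpowers, ho] at this
      rcases (Nat.dvd_prime (by norm_num)).1 hd with h | h
      · exact hne (orderOf_eq_one_iff.1 h)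
      · have := hg 5 (by norm_num) (ho' ▸ h ▸ Nat.dvd_lcm_left _ _)
        omega
    subst hq
    refine ⟨j, fun h7 => ?_, ?_⟩
    · have := hg 7 (by norm_num) (ho' ▸ h7.trans (Nat.dvd_lcm_right _ _))
      omega
    · rw [hι]

end CfsgLib.J4Classes
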