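/-
Janko-four type: nine classes of elements whose largest prime is 5.
-/
import Cfsg.Agent.J4Classes.FiveCentraliser

set_option autoImplicit false

namespace CfsgLib.J4Classes

open Subgroup CfsgLib.J4Local

theorem top_five {G : Type*} [Group G] [Finite G] [IsSimpleGroup G] (hG : ¬ IsMulCommutative G)
    (hJ : Cfsg.IsOfJankoFourType G) : cl G (Top 5) = 9 := by
  classical
  haveI : Fact (Nat.Prime 5) := ⟨by norm_num⟩
  obtain ⟨z, P, hP⟩ := hJ
  obtain ⟨f, x, a, hf, ho, -⟩ := CfsgLib.J4Twist.exists_twist hP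
  obtain ⟨h25, ⟨J, hJd, E, hEn, -, hE8, ⟨Φ⟩, -⟩, -, hN⟩ := CfsgLib.J4FiveLocal.five_structure hG hP (zpowers f)
    (by rw [Nat.card_zpowers, ho]) (zpowers_le.2 hf.1)
  -- the Sylow subgroup
  obtain ⟨U, hU⟩ := (IsPGroup.of_card (p := 5) (n := 1) (G := zpowers f)
    (by rw [Nat.card_zpowers, ho, pow_one])).exists_le_sylow
  have hUc : Nat.card (U : Subgroup G) = 5 := by
    obtain ⟨n, hn⟩ := IsPGroup.iff_card.1 U.2
    have h1 : n ≤ 1 := by
      by_contra hne
      exact h25 (((show (25 : ℕ) = 5 ^ 2 by norm_num) ▸ pow_dvd_pow 5 (by omega : 2 ≤ n)).trans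
        (hn ▸ Subgroup.card_subgroup_dvd_card _))
    have h2 : 5 ∣ Nat.card (U : Subgroup G) := by
      have := Subgroup.card_dvd_of_le hU
      rwa [Nat.card_zpowers, ho] at this
    rw [hn] at h2 ⊢
    rcases Nat.le_one_iff_eq_zero_or_eq_one.1 h1 with rfl | rfl
    · norm_num at h2
    · norm_num
  have hUeq : zpowers f = (U : Subgroup G) := Subgroup.eq_of_le_of_card_ge hU (by
    rw [hUc, Nat.card_zpowers, ho])
  -- the centraliser has order 6720
  have hC : Nat.card ↥(centralizer ((U : Subgroup G) : Set G)) = 6720 := by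
    rw [← hUeq]
    obtain ⟨hQC, hJC, hcomm, hinf, hsup⟩ := hJd
    have hJcard : Nat.card J = 1344 := by
      have h1 := E.card_eq_card_quotient_mul_card_subgroup
      rw [Nat.card_congr Φ.toEquiv, hE8, CfsgLib.J4FiveGen.card_SL32] at h1
      exact h1
    have hn : J ≤ normalizer (zpowers f : Set G) :=
      (hJC.trans (centralizer_le_normalizer _))
    have := CfsgLib.Solvable.card_sup_mul_card_inf hn
    rw [inf_comm, hinf, sup_comm, hsup, Subgroup.card_bot, hJcard, Nat.card_zpowers, ho] at this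
    omega
  have hone : cl G (fun g => orderOf g = 5) = 1 := by
    have h := cl_prime (by norm_num : Nat.Prime 5) U hUc (d := 4) (by rw [hC, ← hUeq, hN]; norm_num)
    omega
  have hexp : ∀ g : G, ¬ 5 ^ 2 ∣ orderOf g := fun g h =>
    h25 (((show (25 : ℕ) = 5 ^ 2 by norm_num) ▸ h).trans (orderOf_dvd_natCard g))
  rw [cl_top_const (k := 9) (by norm_num : Nat.Prime 5) hexp, hone, one_mul]
  intro g hg
  -- every element of order 5 has a conjugate centralising `z`
  obtain ⟨T, hT⟩ := (IsPGroup.of_card (p := 5) (n := 1) (G := zpowers g)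
    (by rw [Nat.card_zpowers, hg, pow_one])).exists_le_sylow
  obtain ⟨c, hc⟩ := MulAction.exists_smul_eq G T U
  have hmem : c * g * c⁻¹ ∈ zpowers f := by
    rw [hUeq, ← hc]
    exact ⟨g, hT (mem_zpowers g), rfl⟩
  rw [cl_centralizer_conj (isConj_iff.2 ⟨c, rfl⟩ : IsConj g (c * g * c⁻¹))]
  exact five_centraliser_classes hG hP (zpowers_le.2 hf.1 hmem)
    ((MulEquiv.orderOf_eq (MulAut.conj c) g).trans hg)

end CfsgLib.J4Classes
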