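import Cfsg.Agent.J4Local.M22Facts
import Cfsg.Agent.J4Classes.M22TwoData

/-!
The classes of 2-elements of the Mathieu group of degree 22, with generators of the centralisers of the
representatives of orders 4 and 8.
-/

set_option autoImplicit false
set_option linter.style.haveILetI false
set_option maxRecDepth 100000

namespace CfsgLib.J4Classes.M22Two

open CfsgLib.J4M22 CfsgLib.Golay CfsgLib.Golay.Cert

/-- The lists of the five representatives. -/
def repsL : List (List ℕ) := [List.range 24, zL, fourAL, fourBL, eightL]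

/-- The conjugators in the order of the elements of the 2-subgroup. -/
def witL : List (ℕ × List ℕ) := witPart0 ++ witPart1 ++ witPart2 ++ witPart3

/-- The centraliser of the element of order 4. -/
def cenFourL : List (List ℕ) :=
  ((List.range 8).map (powL eightL)).flatMap fun e =>
    [e, compL e dOneL, compL e dTwoL, compL e (compL dOneL dTwoL)]

theorem basic_ok :
    ([rL, eightL, fourAL, fourBL, dOneL, dTwoL, hOneL, hTwoL].all okL && ordB 3 rL &&
      (compL rL zL == compL zL rL) && !(els2.contains rL) && !(els2.contains (compL rL rL)) &&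
      (compL eightL eightL == fourAL) && (powL eightL 4 == zL) &&
      (compL dOneL dOneL == List.range 24) && (compL dTwoL dTwoL == List.range 24) &&
      (conjL hOneL fourAL == compL fourAL dOneL) && (conjL hTwoL fourAL == compL fourAL dTwoL) &&
      (compL dOneL fourAL == compL fourAL dOneL) && (compL dTwoL fourAL == compL fourAL dTwoL) &&
      (powL fourBL 8 == List.range 24)) = true := by
  decide +kernel

theorem series_ok :
    (seriesWords.length == SylowCert.m22Pc.length &&
      (SylowCert.m22Pc.zip seriesWords).all fun p =>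
        okL p.2.1 && okL p.2.2 && els2.contains p.2.1 && els2.contains p.2.2 &&
          (compL p.2.1 p.2.1 == List.range 24) && (compL p.2.2 p.2.2 == List.range 24) &&
          (compL p.2.1 p.2.2 == p.1)) = true := by
  decide +kernel

theorem wit_ok :
    (witL.length == els2.length &&
      (els2.zip witL).all fun p =>
        okL p.2.2 && decide (p.2.1 < 5) && (conjL p.2.2 p.1 == repsL.getD p.2.1 [])) = true := by
  decide +kernel

theorem cen_ok :
    (els2.all fun t => [List.range 24, rL, compL rL rL].all fun u =>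
      let x := compL t u
      (!(compL x fourAL == compL fourAL x) || cenFourL.contains x) &&
        (!(compL x eightL == compL eightL x) || ((List.range 8).map (powL eightL)).contains x)) = true := by
  decide +kernel

/-- The element of order 3. -/
noncomputable def tauR : M := el rL

/-- The element of order 8. -/
noncomputable def eightE : M := el eightL

/-- The element of order 4 that is a square. -/
noncomputable def fourA : M := el fourAL

/-- The other element of order 4. -/
noncomputable def fourB : M := el fourBL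

/-- The representatives. -/
noncomputable def rep : ℕ → M
  | 0 => 1
  | 1 => zE
  | 2 => fourA
  | 3 => fourB
  | _ => eightE

theorem lst_facts :
    lst tauR = rL ∧ lst eightE = eightL ∧ lst fourA = fourAL ∧ lst fourB = fourBL ∧
      lst (el dOneL) = dOneL ∧ lst (el dTwoL) = dTwoL ∧ lst (el hOneL) = hOneL ∧ lst (el hTwoL) = hTwoL := by
  have h := basic_ok
  simp only [Bool.and_eq_true, List.all_cons, List.all_nil] at h
  obtain ⟨⟨⟨⟨⟨⟨⟨⟨⟨⟨⟨⟨⟨⟨h1, h2, h3, h4, h5, h6, h7, h8, -⟩, -⟩, -⟩, -⟩, -⟩, -⟩, -⟩, -⟩, -⟩, -⟩, -⟩, -⟩, -⟩, -⟩ := h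
  exact ⟨lst_el h1, lst_el h2, lst_el h3, lst_el h4, lst_el h5, lst_el h6, lst_el h7, lst_el h8⟩

theorem lst_rep {k : ℕ} (hk : k < 5) : lst (rep k) = repsL.getD k [] := by
  obtain ⟨-, h8, hA, hB, -⟩ := lst_facts
  interval_cases k
  · exact lst_one
  · exact lst_zE
  · exact hA
  · exact hB
  · exact h8

/-- The relations between the representatives and the auxiliary elements. -/
theorem relations :
    eightE * eightE = fourA ∧ eightE ^ 4 = zE ∧ orderOf tauR = 3 ∧ tauR * zE = zE * tauR ∧
      tauR ∉ T ∧ tauR * tauR ∉ T ∧ el dOneL * el dOneL = 1 ∧ el dTwoL * el dTwoL = 1 ∧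
      el hOneL * fourA * (el hOneL)⁻¹ = fourA * el dOneL ∧ el hTwoL * fourA * (el hTwoL)⁻¹ = fourA * el dTwoL ∧
      el dOneL * fourA = fourA * el dOneL ∧ el dTwoL * fourA = fourA * el dTwoL ∧ fourB ^ 8 = 1 := by
  haveI : Fact (Nat.Prime 3) := ⟨Nat.prime_three⟩
  obtain ⟨lr, l8, lA, lB, ld1, ld2, lh1, lh2⟩ := lst_facts
  have h := basic_ok
  simp only [Bool.and_eq_true, beq_iff_eq, Bool.not_eq_true', ← Bool.not_eq_true, List.contains_iff_mem] at h
  obtain ⟨⟨⟨⟨⟨⟨⟨⟨⟨⟨⟨⟨⟨-, hr3⟩, hrz⟩, hr1⟩, hr2⟩, h88⟩, h84⟩, hd1⟩, hd2⟩, hh1⟩, hh2⟩, hc1⟩, hc2⟩, hB8⟩ := h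
  have eq : ∀ {a b : M}, lst a = lst b → a = b := fun h => lst_injective h
  refine ⟨eq ?_, eq ?_, orderOf_of_ordB (by rw [lr]; exact hr3), eq ?_, fun h => hr1 ?_, fun h => hr2 ?_, eq ?_,
    eq ?_, eq ?_, eq ?_, eq ?_, eq ?_, eq ?_⟩
  · rw [lst_mul, l8, lA, h88]
  · rw [lst_pow, l8, lst_zE, h84]
  · rw [lst_mul, lst_mul, lr, lst_zE, hrz]
  · rw [← lr]; exact mem_T.1 h
  · rw [← lr, ← lst_mul]; exact mem_T.1 h
  · rw [lst_mul, ld1, lst_one, hd1]
  · rw [lst_mul, ld2, lst_one, hd2]
  · rw [lst_conj, lst_mul, lh1, lA, ld1, hh1]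
  · rw [lst_conj, lst_mul, lh2, lA, ld2, hh2]
  · rw [lst_mul, lst_mul, lA, ld1, hc1]
  · rw [lst_mul, lst_mul, lA, ld2, hc2]
  · rw [lst_pow, lB, lst_one, hB8]

/-- The standard 2-subgroup is generated by its involutions. -/
theorem T_le_of_involutions (S : Subgroup M) (hS : ∀ x ∈ T, x * x = 1 → x ∈ S) : T ≤ S := by
  have h := series_ok
  simp only [Bool.and_eq_true, beq_iff_eq, List.all_eq_true, List.contains_iff_mem] at h
  obtain ⟨hlen, hw⟩ := h
  have key : ∀ i ≤ SylowCert.m22Pc.length, ∀ L ∈ SylowCert.els SylowCert.m22Pc i, ∃ w ∈ S, lst w = L := by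
    intro i
    induction i with
    | zero =>
      intro _ L hL
      rw [SylowCert.els, List.mem_singleton] at hL
      exact ⟨1, one_mem S, by rw [lst_one, hL]⟩
    | succ i ih =>
      intro hi L hL
      rw [SylowCert.els, List.mem_append, List.mem_map] at hL
      rcases hL with hL | ⟨L', hL', rfl⟩
      · exact ih (Nat.le_of_succ_le hi) L hL
      · obtain ⟨w, hw', hwl⟩ := ih (Nat.le_of_succ_le hi) L' hL'
        have hi' : i < SylowCert.m22Pc.length := hi
        have hj : i < seriesWords.length := hlen ▸ hi'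
        have hp : (SylowCert.m22Pc[i], seriesWords[i]) ∈ SylowCert.m22Pc.zip seriesWords := by
          refine List.mem_iff_getElem.2 ⟨i, ?_, List.getElem_zip⟩
          rw [List.length_zip]
          exact lt_min hi' hj
        obtain ⟨⟨⟨⟨⟨⟨ha, hb⟩, haT⟩, hbT⟩, haa⟩, hbb⟩, hab⟩ := hw _ hp
        have mem : ∀ {u : List ℕ}, okL u = true → u ∈ els2 → compL u u = List.range 24 → el u ∈ S :=
          fun {u} hu huT huu => hS _ (mem_T.2 (by rw [lst_el hu]; exact huT))
            (lst_injective (by rw [lst_mul, lst_el hu, lst_one, huu]))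
        refine ⟨el (seriesWords[i]).1 * el (seriesWords[i]).2 * w,
          mul_mem (mul_mem (mem ha haT haa) (mem hb hbT hbb)) hw', ?_⟩
        rw [lst_mul, lst_mul, lst_el ha, lst_el hb, hwl, List.getD_eq_getElem _ _ hi', hab]
        rfl
  intro x hx
  obtain ⟨w, hw', hwl⟩ := key _ le_rfl _ (mem_T.1 hx)
  rwa [← lst_injective hwl]

/-- The centraliser of the central involution is `T ∪ T r ∪ T r²`. -/
theorem cen_z {c : M} (hc : c * zE = zE * c) : ∃ t ∈ T, c = t ∨ c = t * tauR ∨ c = t * (tauR * tauR) := by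
  obtain ⟨-, -, hr3, hrz, hr1, hr2, -⟩ := relations
  set C := Subgroup.centralizer ({zE} : Set M)
  have hr : tauR ∈ C := Subgroup.mem_centralizer_singleton_iff.2 hrz
  have hrr : tauR * tauR ∈ C := mul_mem hr hr
  have hinv : tauR⁻¹ = tauR * tauR := inv_eq_of_mul_eq_one_right (by
    rw [← mul_assoc, ← pow_three', ← hr3, pow_orderOf_eq_one])
  set D := T.subgroupOf C
  have hidx : D.index = 3 := by
    have h := D.card_mul_index
    rw [Nat.card_congr (Subgroup.subgroupOfEquivOfLe T_le_centralizer).toEquiv, card_T,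
      card_centralizer_two orderOf_zE] at h
    omega
  let f : Fin 3 → C ⧸ D := fun i => (((⟨tauR, hr⟩ : C) ^ (i : ℕ) : C) : C ⧸ D)
  have hne : ∀ i j : Fin 3, (i : ℕ) < j → f i ≠ f j := by
    intro i j hij e
    have h := QuotientGroup.eq.1 e
    rw [Subgroup.mem_subgroupOf] at h
    simp only [Subgroup.coe_mul, Subgroup.coe_inv, Subgroup.coe_pow] at h
    have hc : ((j : ℕ) - i) = 1 ∨ ((j : ℕ) - i) = 2 := by omega
    have h' : tauR ^ ((j : ℕ) - i) ∈ T := by
      rw [pow_sub _ hij.le, ((Commute.refl tauR).pow_pow _ _).inv_right.eq]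
      exact h
    rcases hc with e' | e' <;> rw [e'] at h'
    · exact hr1 (by rwa [pow_one] at h')
    · exact hr2 (by rwa [pow_two] at h')
  have hinj : Function.Injective f := fun i j e => by
    rcases lt_trichotomy (i : ℕ) j with h | h | h
    · exact absurd e (hne i j h)
    · exact Fin.ext h
    · exact absurd e.symm (hne j i h)
  have hsurj : Function.Surjective f := ((Nat.bijective_iff_injective_and_card f).2
    ⟨hinj, by rw [Nat.card_fin, ← Subgroup.index_eq_card, hidx]⟩).surjective
  obtain ⟨i, hi⟩ := hsurj ((⟨c, Subgroup.mem_centralizer_singleton_iff.2 hc⟩ : C)⁻¹ : C)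
  have h := QuotientGroup.eq.1 hi
  rw [Subgroup.mem_subgroupOf] at h
  simp only [Subgroup.coe_mul, Subgroup.coe_inv, Subgroup.coe_pow] at h
  have hcr : c * tauR ^ (i : ℕ) ∈ T := by
    have := T.inv_mem h
    rwa [mul_inv_rev, inv_inv, inv_inv] at this
  fin_cases i
  · exact ⟨c, by simpa using hcr, Or.inl rfl⟩
  · refine ⟨c * tauR, by simpa using hcr, Or.inr (Or.inr ?_)⟩
    rw [← hinv, mul_inv_cancel_right]
  · refine ⟨c * tauR ^ 2, by simpa using hcr, Or.inr (Or.inl ?_)⟩
    rw [pow_two, ← hinv, inv_mul_cancel_right]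

theorem cen_list {c x : M} (hc : c * x = x * c) (hz : c * zE = zE * c) :
    (lst x = fourAL → lst c ∈ cenFourL) ∧ (lst x = eightL → lst c ∈ (List.range 8).map (powL eightL)) := by
  obtain ⟨t, ht, hct⟩ := cen_z hz
  obtain ⟨lr, -⟩ := lst_facts
  have hcom : compL (lst c) (lst x) = compL (lst x) (lst c) := commute_iff.1 hc
  have h := cen_ok
  simp only [List.all_eq_true, Bool.and_eq_true, Bool.or_eq_true, Bool.not_eq_true', ← Bool.not_eq_true,
    beq_iff_eq, List.contains_iff_mem] at h
  have hu : ∃ u ∈ [List.range 24, rL, compL rL rL], lst c = compL (lst t) u := by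
    rcases hct with rfl | rfl | rfl
    · exact ⟨_, List.mem_cons_self, by rw [← lst_one, ← lst_mul, mul_one]⟩
    · exact ⟨_, List.mem_cons_of_mem _ List.mem_cons_self, by rw [lst_mul, lr]⟩
    · exact ⟨_, List.mem_cons_of_mem _ (List.mem_cons_of_mem _ List.mem_cons_self), by
        rw [lst_mul, lst_mul, lr]⟩
  obtain ⟨u, hum, e⟩ := hu
  obtain ⟨h1, h2⟩ := h _ (mem_T.1 ht) u hum
  rw [e] at hcom
  constructor
  · intro hx
    rw [hx] at hcom
    rw [e]
    exact h1.resolve_left fun hn => hn hcom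
  · intro hx
    rw [hx] at hcom
    rw [e]
    exact h2.resolve_left fun hn => hn hcom

/-- The centraliser of the element of order 8. -/
theorem cen_eight {c : M} (hc : c * eightE = eightE * c) : ∃ i : ℕ, c = eightE ^ i := by
  obtain ⟨-, l8, -⟩ := lst_facts
  have hz : c * zE = zE * c := by
    rw [← relations.2.1]
    exact ((show Commute c eightE from hc).pow_right 4).eq
  have h := (cen_list hc hz).2 l8
  obtain ⟨i, -, hi⟩ := List.mem_map.1 h
  exact ⟨i, lst_injective (by rw [lst_pow, l8, hi])⟩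

/-- The centraliser of the square of the element of order 8. -/
theorem cen_four {c : M} (hc : c * fourA = fourA * c) :
    ∃ i : ℕ, c = eightE ^ i ∨ c = eightE ^ i * el dOneL ∨ c = eightE ^ i * el dTwoL ∨
      c = eightE ^ i * (el dOneL * el dTwoL) := by
  obtain ⟨-, l8, lA, -, ld1, ld2, -⟩ := lst_facts
  obtain ⟨h88, h84, -⟩ := relations
  have hz : c * zE = zE * c := by
    rw [← h84, show 4 = 2 * 2 from rfl, pow_mul, pow_two eightE, h88]
    exact ((show Commute c fourA from hc).pow_right 2).eq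
  have h := (cen_list hc hz).1 lA
  simp only [cenFourL, List.mem_flatMap, List.mem_map] at h
  obtain ⟨e, ⟨i, -, rfl⟩, he⟩ := h
  simp only [List.mem_cons, List.not_mem_nil, or_false] at he
  refine ⟨i, ?_⟩
  have li : lst (eightE ^ i) = powL eightL i := by rw [lst_pow, l8]
  rcases he with he | he | he | he
  · exact Or.inl (lst_injective (by rw [li, he]))
  · exact Or.inr (Or.inl (lst_injective (by rw [lst_mul, li, ld1, he])))
  · exact Or.inr (Or.inr (Or.inl (lst_injective (by rw [lst_mul, li, ld2, he]))))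
  · exact Or.inr (Or.inr (Or.inr (lst_injective (by rw [lst_mul, lst_mul, li, ld1, ld2, he]))))

/-- The five classes of 2-elements. -/
theorem exists_rep {x : M} {n : ℕ} (hx : x ^ 2 ^ n = 1) : ∃ k < 5, IsConj x (rep k) := by
  haveI : Fact (Nat.Prime 2) := ⟨Nat.prime_two⟩
  have hp : IsPGroup 2 (Subgroup.zpowers x) := by
    obtain ⟨k, -, hk⟩ := (Nat.dvd_prime_pow Nat.prime_two).1 (orderOf_dvd_of_pow_eq_one hx)
    exact IsPGroup.of_card (n := k) (by rw [Nat.card_zpowers, hk])
  obtain ⟨Q, hQ⟩ := hp.exists_le_sylow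
  obtain ⟨g, hg⟩ := MulAction.exists_smul_eq M Q TS
  have hmem : g * x * g⁻¹ ∈ T := by
    rw [← coe_TS, ← hg]
    exact ⟨x, hQ (Subgroup.mem_zpowers x), rfl⟩
  have hm := mem_T.1 hmem
  obtain ⟨i, hi, hil⟩ := List.mem_iff_getElem.1 hm
  have h := wit_ok
  simp only [Bool.and_eq_true, beq_iff_eq, List.all_eq_true, decide_eq_true_eq] at h
  obtain ⟨hlen, hw⟩ := h
  have hj : i < witL.length := hlen ▸ hi
  have hp : (els2[i], witL[i]) ∈ els2.zip witL := by
    refine List.mem_iff_getElem.2 ⟨i, ?_, List.getElem_zip⟩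
    rw [List.length_zip]
    exact lt_min hi hj
  obtain ⟨⟨hok, hk⟩, he⟩ := hw _ hp
  refine ⟨_, hk, (isConj_iff.2 ⟨g, rfl⟩ : IsConj x (g * x * g⁻¹)).trans (isConj_iff.2 ⟨el (witL[i]).2, ?_⟩)⟩
  dsimp only at hok hk he ⊢
  exact lst_injective (by rw [lst_conj, lst_el hok, ← hil, lst_rep hk]; exact he)

end CfsgLib.J4Classes.M22Two
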