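import Cfsg.Agent.J4Classes.Count
import Cfsg.Agent.J4Local.Order.OrderMain
import Cfsg.Agent.S5573
import Mathlib.GroupTheory.Perm.Cycle.Type

/-!
The classes of a group of Janko-four type whose elements have largest prime 7: two classes of elements of
order 7, each with centraliser a product with the symmetric group of degree 5.
-/

set_option autoImplicit false
set_option linter.style.haveILetI false

namespace CfsgLib.J4Classes

open Subgroup Equiv

/-- Representatives of the classes of the symmetric group of degree 5. -/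
def fiveReps : Fin 7 → Equiv.Perm (Fin 5) :=
  ![1, swap 0 1, swap 0 1 * swap 2 3, swap 0 1 * swap 1 2, swap 0 1 * swap 1 2 * swap 3 4,
    swap 0 1 * swap 1 2 * swap 2 3, swap 0 1 * swap 1 2 * swap 2 3 * swap 3 4]

theorem fiveReps_cover : ∀ σ : Equiv.Perm (Fin 5), ∃ i, σ.cycleType = (fiveReps i).cycleType := by
  decide +kernel

theorem fiveReps_inj : ∀ i j, (fiveReps i).cycleType = (fiveReps j).cycleType → i = j := by decide +kernel

/-- The symmetric group of degree 5 has seven classes of elements, none of order divisible by 7. -/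
theorem cl_perm_five : cl (Equiv.Perm (Fin 5)) (Small 7) = 7 := by
  rw [cl_reps (ι := Fin 7) fiveReps, Nat.card_fin]
  · intro i q hq hd
    have h : q ∣ 120 := hd.trans (by
      refine (_root_.orderOf_dvd_natCard _).trans (dvd_of_eq ?_)
      rw [Nat.card_perm, Nat.card_fin]; rfl)
    rcases hq.dvd_mul.1 (show q ∣ 2 ^ 3 * (3 * 5) from h) with h | h
    · rw [(Nat.prime_dvd_prime_iff_eq hq Nat.prime_two).1 (hq.dvd_of_dvd_pow h)]; norm_num
    · rcases hq.dvd_mul.1 h with h | h <;> rw [(Nat.prime_dvd_prime_iff_eq hq (by norm_num)).1 h] <;> norm_num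
  · exact fun i j h => fiveReps_inj i j (Equiv.Perm.isConj_iff_cycleType_eq.1 h)
  · intro σ _
    obtain ⟨i, hi⟩ := fiveReps_cover σ
    exact ⟨i, Equiv.Perm.isConj_iff_cycleType_eq.2 hi⟩

variable {G : Type*} [Group G] [Finite G] [IsSimpleGroup G]

/-- **Fourteen classes with largest prime 7.** -/
theorem top_seven (hG : ¬ IsMulCommutative G) (hJ : Cfsg.IsOfJankoFourType G) : cl G (Top 7) = 14 := by
  classical
  haveI : Fact (Nat.Prime 7) := ⟨by norm_num⟩
  obtain ⟨z, P, hJ⟩ := hJ
  obtain ⟨y, hy⟩ := exists_prime_orderOf_dvd_card' (G := centralizer ({z} : Set G)) 7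
    (by rw [CfsgLib.J4Three.card_centralizer hJ]; norm_num)
  set s : G := (y : G) with hs_def
  have hso : orderOf s = 7 := by rw [hs_def, Subgroup.orderOf_coe, hy]
  have hS : Nat.card (zpowers s) = 7 := by rw [Nat.card_zpowers, hso]
  obtain ⟨h49, ⟨I, hI, ⟨eI⟩⟩, hN, hNc⟩ :=
    Cfsg.Agent.S5573.result hG z ⟨P, hJ⟩ (zpowers s) hS (zpowers_le.2 y.2)
  have hexp : ∀ g : G, ¬ 7 ^ 2 ∣ orderOf g := fun g hg => h49 ((show 49 = 7 ^ 2 by norm_num) ▸
    hg.trans (_root_.orderOf_dvd_natCard g))
  have hfac : (Nat.card G).factorization 7 = 1 := by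
    have h7 : 7 ∣ Nat.card G := hso ▸ _root_.orderOf_dvd_natCard s
    have := (Fact.out : Nat.Prime 7).factorization_pos_of_dvd Nat.card_pos.ne' h7
    by_contra hne
    exact h49 ((show 49 = 7 ^ 2 by norm_num) ▸
      ((Fact.out : Nat.Prime 7).pow_dvd_iff_le_factorization Nat.card_pos.ne').2 (by omega))
  let U : Sylow 7 G := Sylow.ofCard (zpowers s) (by rw [hS, hfac, pow_one])
  have hcz : centralizer ((zpowers s : Subgroup G) : Set G) = centralizer ({s} : Set G) := by
    rw [Subgroup.zpowers_eq_closure, Subgroup.centralizer_closure]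
  have hk : ∀ g : G, orderOf g = 7 → cl ↥(centralizer ({g} : Set G)) (Small 7) = 7 := by
    intro g hg
    -- a conjugate of `g` is a power of `s`, with the same centraliser
    obtain ⟨T, hT⟩ := (IsPGroup.of_card (p := 7) (n := 1) (G := zpowers g)
      (by rw [Nat.card_zpowers, hg, pow_one])).exists_le_sylow
    obtain ⟨c, hc⟩ := MulAction.exists_smul_eq G T U
    have hmem : c * g * c⁻¹ ∈ zpowers s := by
      show c * g * c⁻¹ ∈ (U : Subgroup G)
      rw [← hc]
      exact ⟨g, hT (mem_zpowers g), rfl⟩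
    rw [cl_centralizer_conj (isConj_iff.2 ⟨c, rfl⟩ : IsConj g (c * g * c⁻¹))]
    set g' := c * g * c⁻¹
    have hgo : orderOf g' = 7 := (MulEquiv.orderOf_eq (MulAut.conj c) g).trans hg
    have hgs : zpowers g' = zpowers s :=
      Subgroup.eq_of_le_of_card_ge (zpowers_le.2 hmem) (by rw [Nat.card_zpowers, Nat.card_zpowers, hso, hgo])
    have hcg : centralizer ({g'} : Set G) = centralizer ({s} : Set G) := by
      rw [← hcz, ← hgs, Subgroup.zpowers_eq_closure, Subgroup.centralizer_closure]
    rw [hcg]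
    rw [hcz] at hI
    obtain ⟨hSC, hIC, hcomm, hinf, hsup⟩ := hI
    set C := centralizer ({s} : Set G)
    have hdec : ∀ x ∈ C, ∃ a ∈ zpowers s, ∃ b ∈ I, x = a * b := by
      intro x hx
      rw [← hsup] at hx
      have hn : zpowers s ≤ normalizer (I : Set G) := by
        refine le_trans ?_ (centralizer_le_normalizer _)
        intro a ha
        exact mem_centralizer_iff.2 fun b hb => (hcomm a ha b hb).symm
      obtain ⟨a, ha, b, hb, e⟩ := (CfsgLib.Solvable.mem_sup_of_le_normalizer hn).1 hx
      exact ⟨a, ha, b, hb, e.symm⟩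
    have hIord : ∀ b ∈ I, ¬ 7 ∣ orderOf b := fun b hb h => by
      have h' := h.trans (Subgroup.orderOf_dvd_natCard _ hb)
      rw [Nat.card_congr eI.toEquiv, Nat.card_perm, Nat.card_fin] at h'
      exact absurd h' (by decide)
    rw [cl_sub (I.subgroupOf C) (fun x hx => ?_) (fun x => ?_)]
    · exact (cl_equiv ((subgroupOfEquivOfLe hIC).trans eI) fun j => by
        unfold Small
        rw [MulEquiv.orderOf_eq, Subgroup.orderOf_coe]).trans cl_perm_five
    · obtain ⟨a, ha, b, hb, e⟩ := hdec x x.2
      rw [mem_subgroupOf, e]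
      have hab : Commute a b := hcomm a ha b hb
      have hao : orderOf a ∣ 7 := hso ▸ orderOf_dvd_of_mem_zpowers ha
      rcases (Fact.out : Nat.Prime 7).eq_one_or_self_of_dvd _ hao with h | h
      · rw [orderOf_eq_one_iff.1 h, one_mul]; exact hb
      · exfalso
        have ho : orderOf (x : G) = 7 * orderOf b := by
          rw [e, hab.orderOf_mul_eq_mul_orderOf_of_coprime (by
            rw [h]; exact (Fact.out : Nat.Prime 7).coprime_iff_not_dvd.2 (hIord b hb)), h]
        exact lt_irrefl 7 (hx 7 Fact.out (by rw [← Subgroup.orderOf_coe, ho]; exact dvd_mul_right 7 _))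
    · obtain ⟨a, ha, b, hb, e⟩ := hdec x x.2
      refine ⟨⟨b, hIC hb⟩, mem_subgroupOf.2 hb, Subgroup.mem_center_iff.2 fun w => Subtype.ext ?_⟩
      show (w : G) * (b⁻¹ * x) = b⁻¹ * x * w
      rw [e, (show Commute a b from hcomm a ha b hb).eq, inv_mul_cancel_left]
      exact mem_centralizer_iff.1 ((hcz.ge w.2)) a ha |>.symm
  have hn := cl_prime (p := 7) Fact.out U hS (d := 3) hN
  rw [cl_top_const Fact.out hexp hk]
  omega

end CfsgLib.J4Classes
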