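import Cfsg.Agent.J4Local.CentT.Ops

/-!
In the normaliser of the elementary abelian subgroup of order 2048: an element of order 3 whose centraliser
contains elements `c`, `d` with `d c d⁻¹ = u c`, where `u` is an involution commuting with an element of
order 5 of that centraliser.
-/

set_option autoImplicit false
set_option linter.style.haveILetI false
set_option maxRecDepth 100000

namespace CfsgLib.J4Classes

open Cfsg CfsgLib.Golay CfsgLib.Golay.Cert CfsgLib.J4CentT

namespace Witness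

/-- The element of order 3. -/
def sL : List ℕ := [0,11,16,21,4,14,6,7,20,2,12,13,23,1,17,15,9,5,18,3,22,19,8,10]

/-- The element of order 4. -/
def cL : List ℕ := [0,1,10,17,18,21,7,6,8,23,2,11,16,13,19,15,12,3,4,14,20,5,22,9]

/-- The element moving it. -/
def dL : List ℕ := [15,20,2,17,4,21,7,6,13,9,10,22,12,8,19,0,16,3,18,14,1,5,11,23]

/-- The element of order 5. -/
def fL : List ℕ := [0,2,12,11,7,3,15,6,8,10,14,16,17,9,21,18,23,19,4,1,20,13,22,5]

theorem data_ok : genOK sL = true ∧ genOK cL = true ∧ genOK dL = true ∧ genOK fL = true ∧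
    powL sL 3 = List.range 24 ∧ sL ≠ List.range 24 ∧ powL fL 5 = List.range 24 ∧ fL ≠ List.range 24 ∧
    compL cL sL = compL sL cL ∧ compL dL sL = compL sL dL ∧ compL fL sL = compL sL fL ∧
    compL cL dL = compL dL cL ∧ powL cL 4 = List.range 24 ∧
    act sL 22 = 22 ∧ act sL 72 = 72 ∧ act sL 687 = 687 ∧ act fL 687 = 687 ∧
    (72 ^^^ act dL 22) ^^^ act cL 72 = 687 ^^^ 22 ∧
    (22 ^^^ act cL 22) ^^^ act (compL cL cL) (22 ^^^ act cL 22) = 0 := by
  decide +kernel

end Witness

variable {G : Type*} [Group G] {z : G}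

theorem exists_witness (F : Fr z) : ∃ s c d f u : G, orderOf s = 3 ∧ c * s = s * c ∧ d * s = s * d ∧
    f * s = s * f ∧ u * s = s * u ∧ orderOf f = 5 ∧ u * f = f * u ∧ u * u = 1 ∧ u ≠ 1 ∧ c ^ 8 = 1 ∧
    d * c * d⁻¹ = u * c := by
  haveI : Fact (Nat.Prime 3) := ⟨Nat.prime_three⟩
  haveI : Fact (Nat.Prime 5) := ⟨by norm_num⟩
  obtain ⟨hs, hc, hd, hf, hs3, hs1, hf5, hf1, hcs, hds, hfs, hcd, hc4, av, aw, au, afu, hmix, hpow⟩ :=
    Witness.data_ok
  obtain ⟨σ, hσ⟩ := genOK_spec hs
  obtain ⟨α, hα⟩ := genOK_spec hc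
  obtain ⟨β, hβ⟩ := genOK_spec hd
  obtain ⟨φ, hφ⟩ := genOK_spec hf
  have hA : ∀ i, actG α i = act Witness.cL i := fun i => congrArg (act · i) hα
  have hB : ∀ i, actG β i = act Witness.dL i := fun i => congrArg (act · i) hβ
  have eq : ∀ {g h : M24}, toList g.1 = toList h.1 → g = h := fun e => toList_coe_injective e
  have hv : 22 < 2048 := by norm_num
  have hw : 72 < 2048 := by norm_num
  have hu : 687 < 2048 := by norm_num
  have avσ : actG σ 22 = 22 := by rw [actG, hσ, av]
  have awσ : actG σ 72 = 72 := by rw [actG, hσ, aw]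
  have auσ : actG σ 687 = 687 := by rw [actG, hσ, au]
  have hασ : α * σ = σ * α := eq (by rw [Subgroup.coe_mul, Subgroup.coe_mul, toList_mul, toList_mul, hσ, hα, hcs])
  have hβσ : β * σ = σ * β := eq (by rw [Subgroup.coe_mul, Subgroup.coe_mul, toList_mul, toList_mul, hσ, hβ, hds])
  have hφσ : φ * σ = σ * φ := eq (by rw [Subgroup.coe_mul, Subgroup.coe_mul, toList_mul, toList_mul, hσ, hφ, hfs])
  have hαβ : α * β = β * α := eq (by rw [Subgroup.coe_mul, Subgroup.coe_mul, toList_mul, toList_mul, hα, hβ, hcd])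
  have comm : ∀ (i : ℕ) (τ : M24), i < 2048 → actG σ i = i → τ * σ = σ * τ →
      F.b i * F.kap τ * F.kap σ = F.kap σ * (F.b i * F.kap τ) := by
    intro i τ hi hai hτ
    rw [← mul_assoc, F.swap σ hi, hai, mul_assoc, mul_assoc, ← map_mul, ← map_mul, hτ]
  refine ⟨F.kap σ, F.b 22 * F.kap α, F.b 72 * F.kap β, F.kap φ, F.b 687, ?_, comm _ _ hv avσ hασ,
    comm _ _ hw awσ hβσ, by rw [← map_mul, hφσ, map_mul], ?_, ?_, ?_, F.b_sq hu, ?_, ?_, ?_⟩
  · rw [orderOf_injective F.kap F.kap_inj]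
    exact orderOf_eq_prime (eq (by rw [SubgroupClass.coe_pow, toList_pow, hσ]; exact hs3.trans toList_one.symm))
      fun e => hs1 (by rw [← hσ, e]; exact toList_one)
  · rw [F.swap σ hu, auσ]
  · rw [orderOf_injective F.kap F.kap_inj]
    exact orderOf_eq_prime (eq (by rw [SubgroupClass.coe_pow, toList_pow, hφ]; exact hf5.trans toList_one.symm))
      fun e => hf1 (by rw [← hφ, e]; exact toList_one)
  · rw [F.swap φ hu, actG, hφ, afu]
  · exact fun e => absurd (F.b_inj _ hu 0 (by norm_num) (e.trans F.b_zero.symm)) (by norm_num)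
  · have h2 : (F.b 22 * F.kap α) ^ 2 = F.b (22 ^^^ actG α 22) * F.kap (α * α) := by
      rw [pow_two, F.mul_form α α hv hv]
    have h4 : (F.b 22 * F.kap α) ^ 4 = 1 := by
      rw [show 4 = 2 * 2 from rfl, pow_mul, h2, pow_two,
        F.mul_form _ _ (xor_lt hv (act_lt _ _)) (xor_lt hv (act_lt _ _))]
      have e1 : actG (α * α) (22 ^^^ actG α 22) = act (compL Witness.cL Witness.cL) (22 ^^^ act Witness.cL 22) := by
        rw [hA]
        exact congrArg (act · _) (by rw [Subgroup.coe_mul, toList_mul, hα])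
      have e2 : α * α * (α * α) = 1 := eq (by
        rw [show α * α * (α * α) = α ^ 4 by rw [show 4 = 2 * 2 from rfl, pow_mul, pow_two, pow_two], SubgroupClass.coe_pow, toList_pow, hα]
        exact hc4.trans toList_one.symm)
      rw [e1, e2, hα, hpow, F.b_zero, map_one, one_mul]
    rw [show 8 = 4 * 2 from rfl, pow_mul, h4, one_pow]
  · have hb : F.b 72 * F.kap β * (F.b 22 * F.kap α) = F.b 687 * (F.b 22 * F.kap α) * (F.b 72 * F.kap β) := by
      rw [F.mul_form β α hw hv, mul_assoc, F.mul_form α β hv hw, ← mul_assoc, F.b_mul _ hu _ (xor_lt hv (act_lt _ _)),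
        ← hαβ]
      congr 2
      have h := congrArg (fun x => x ^^^ act Witness.cL 72) hmix
      simp only [Nat.xor_assoc, Nat.xor_self, Nat.xor_zero] at h
      simp only [actG, hα, hβ]
      exact h
    rw [hb, mul_inv_cancel_right]

end CfsgLib.J4Classes
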