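import Cfsg.Agent.J4Classes.ThreeCover
import Cfsg.Agent.J4Classes.ThreeWitness
import Cfsg.Agent.J4Local.FiveLocal
import Cfsg.Agent.J4Local.Order.OrderMain
import Cfsg.Agent.S5563
import Cfsg.Agent.S5564
import Cfsg.Agent.S5565
import Cfsg.Agent.S5566
import Cfsg.Agent.S5567
import Cfsg.Agent.S5568

/-!
In a group of Janko-four type there are nine classes of elements whose order has largest prime 3.
-/

set_option autoImplicit false
set_option linter.style.haveILetI false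
set_option linter.unusedSectionVars false

namespace CfsgLib.J4Classes

open Subgroup CfsgLib.J4Local

variable {G : Type*} [Group G] [Finite G] {z : G} {P : Subgroup G}

theorem small_three_iff {H : Type*} [Group H] [Finite H] (g : H) : Small 3 g ↔ ∃ n : ℕ, orderOf g = 2 ^ n := by
  constructor
  · intro hs
    refine ⟨(orderOf g).primeFactorsList.length, Nat.eq_prime_pow_of_unique_prime_dvd (orderOf_pos g).ne' ?_⟩
    intro q hq hd
    have h3 := hs q hq hd
    have h2 := hq.two_le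
    omega
  · rintro ⟨n, hn⟩ q hq hd
    rw [hn] at hd
    rw [(Nat.prime_dvd_prime_iff_eq hq Nat.prime_two).1 (hq.dvd_of_dvd_pow hd)]
    norm_num

variable [IsSimpleGroup G]

/-- No element has order divisible by 9. -/
theorem no_nine (hG : ¬ IsMulCommutative G) (hJ : Cfsg.IsOfJankoFourTypeWith z P) :
    ∀ g : G, ¬ 3 ^ 2 ∣ orderOf g := by
  intro g hg
  haveI : Fact (Nat.Prime 3) := ⟨Nat.prime_three⟩
  have hfG : (Nat.card G).factorization 3 = 3 := by
    rw [CfsgLib.J4Order.order_of_type (z := z) ⟨P, hJ⟩,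
      show (86775571046077562880 : ℕ) = 3 ^ 3 * 3213910038743613440 by norm_num,
      Nat.factorization_mul (by norm_num) (by norm_num), Finsupp.add_apply,
      Nat.Prime.factorization_pow Nat.prime_three, Finsupp.single_eq_same,
      Nat.factorization_eq_zero_of_not_dvd (by norm_num), add_zero]
  obtain ⟨R, hR⟩ := Sylow.exists_subgroup_card_pow_prime (p := 3) (n := 3)
    (show 3 ^ 3 ∣ Nat.card (centralizer ({z} : Set G)) from
      ⟨2 ^ 13 * 98560, by rw [CfsgLib.J4Three.card_centralizer hJ]; norm_num⟩)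
  let S : Sylow 3 G := Sylow.ofCard (R.map (centralizer ({z} : Set G)).subtype) (by
    rw [Subgroup.card_map_of_injective (Subgroup.subtype_injective _), hR, hfG])
  obtain ⟨-, -, hexp, -⟩ := Cfsg.Agent.S5565.result hG z ⟨P, hJ⟩ S (Subgroup.map_subtype_le R)
  obtain ⟨k, hk⟩ := hg
  have hk0 : k ≠ 0 := fun e => (orderOf_pos g).ne' (by rw [hk, e, mul_zero])
  have hy : orderOf (g ^ k) = 3 ^ 2 := by
    rw [orderOf_pow_of_dvd hk0 ⟨3 ^ 2, by rw [hk]; ring⟩, hk, Nat.mul_div_cancel _ (Nat.pos_of_ne_zero hk0)]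
  obtain ⟨T, hT⟩ := (IsPGroup.of_card (p := 3) (n := 2) (G := zpowers (g ^ k))
    (by rw [Nat.card_zpowers, hy])).exists_le_sylow
  obtain ⟨c, hc⟩ := MulAction.exists_smul_eq G T S
  have hmem : c * g ^ k * c⁻¹ ∈ (S : Subgroup G) := by
    rw [← hc]
    exact ⟨g ^ k, hT (mem_zpowers _), rfl⟩
  have h3 := Monoid.pow_exponent_eq_one (⟨_, hmem⟩ : (S : Subgroup G))
  rw [hexp] at h3
  have h3' : (c * g ^ k * c⁻¹) ^ 3 = 1 := congrArg Subtype.val h3
  rw [conj_pow, conj_eq_one_iff] at h3'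
  have h93 := orderOf_dvd_of_pow_eq_one h3'
  rw [hy] at h93
  norm_num at h93

/-- The classes of 2-elements of the centraliser of `P`. -/
theorem cl_C_P (hG : ¬ IsMulCommutative G) (hJ : Cfsg.IsOfJankoFourTypeWith z P) {p : G} (hp : p ∈ P)
    (hp3 : orderOf p = 3) : cl ↥(centralizer ({p} : Set G)) (Small 3) = 9 := by
  classical
  haveI : Fact (Nat.Prime 3) := ⟨Nat.prime_three⟩
  haveI : Fact (Nat.Prime 2) := ⟨Nat.prime_two⟩
  have hPp : zpowers p = P := Subgroup.eq_of_le_of_card_ge (zpowers_le.2 hp)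
    (by rw [Nat.card_zpowers, hp3, card_P hJ])
  have hNP := (Cfsg.Agent.S5563.result hG z P hJ).2.2.2.2
  have hCp : centralizer ({p} : Set G) = cC z P := by
    refine le_antisymm (fun g hg => ?_) fun g hg =>
      mem_centralizer_singleton_iff.2 (mem_centralizer_iff.1 hg.2 p hp).symm
    have hgP : g ∈ centralizer (P : Set G) := by
      refine mem_centralizer_iff.2 fun q hq => ?_
      rw [SetLike.mem_coe, ← hPp] at hq
      obtain ⟨i, rfl⟩ := mem_zpowers_iff.1 hq
      exact ((show Commute g p from mem_centralizer_singleton_iff.1 hg).zpow_right i).symm.eq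
    exact ⟨hNP (centralizer_le_normalizer _ hgP), hgP⟩
  obtain ⟨ρ, hρs, hρk⟩ := exists_hom_C hJ
  have hker : ∀ k : ↥(cC z P), k ∈ ρ.ker ↔ (k : G) ∈ cK z P := fun k => by rw [hρk, mem_subgroupOf]
  let zC : ↥(cC z P) := ⟨z, z_mem_H, z_mem_C_P hJ⟩
  have hzK : (z : G) ∈ cK z P := mem_sup_left (mem_zpowers z)
  have hcov : Cover ρ zC := by
    refine ⟨hρs, fun k hk => Subgroup.mem_center_iff.2 fun g => Subtype.ext ?_, fun k hk => Subtype.ext ?_,
      (hker _).2 hzK, fun e => z_one_ne hJ (congrArg Subtype.val e), Subtype.ext ?_, fun k hk h2 => ?_, fun x hx => ?_⟩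
    · exact (K_comm hJ ((hker k).1 hk) g.2).symm
    · rw [SubgroupClass.coe_pow]
      exact CfsgLib.J4FiveLocal.K_pow_six hJ ((hker k).1 hk)
    · show z * z = 1
      rw [← pow_two, ← orderOf_z hJ, pow_orderOf_eq_one]
    · rcases K_sq_one hJ ((hker k).1 hk) (congrArg Subtype.val h2) with e | e
      · exact Or.inl (Subtype.ext e)
      · exact Or.inr (Subtype.ext e)
    · by_cases hx1 : x = 1
      · exact ⟨1, by rw [map_one, hx1], one_mul 1⟩
      obtain ⟨c, rfl⟩ := hρs x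
      have hck : (c : G) ∉ cK z P := fun h => hx1 (MonoidHom.mem_ker.1 ((hker c).2 h))
      have hcc : (c : G) * c ∈ cK z P := (hker (c * c)).1 (by rw [MonoidHom.mem_ker, map_mul, hx])
      obtain ⟨q, hq, hqq⟩ := exists_invol_lift hJ c.2 hck hcc
      have hqK : q ∈ cK z P := mem_sup_right hq
      refine ⟨c * ⟨q, P_le_C hJ hq⟩, ?_, Subtype.ext hqq⟩
      rw [map_mul, MonoidHom.mem_ker.1 ((hker ⟨q, P_le_C hJ hq⟩).2 hqK), mul_one]
  -- the witness
  obtain ⟨V0, ⟨-, hV, hcard⟩, -⟩ := Cfsg.Agent.S5566.result hG ⟨z, P, hJ⟩ (default : Sylow 2 G)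
  obtain ⟨F⟩ := CfsgLib.J4CentT.exists_fr (z := z) V0 hV hcard
    (Cfsg.Agent.S5567.result hG ⟨z, P, hJ⟩ V0 hV hcard).2 (Cfsg.Agent.S5568.result hG z ⟨P, hJ⟩ V0 hV hcard)
  obtain ⟨s, c, d, f, u, hs, hcs, hds, hfs, hus, hf5, huf, huu, hu1, hc8, hdc⟩ := exists_witness F
  obtain ⟨g, hg⟩ := isConj_iff.1 (Cfsg.Agent.S5564.result hG ⟨z, P, hJ⟩ s p hs hp3)
  have hmem : ∀ {y : G}, y * s = s * y → g * y * g⁻¹ ∈ cC z P := fun {y} hy => by
    rw [← hCp, ← hg]
    exact mem_centralizer_singleton_iff.2 (by rw [_root_.conj_mul, _root_.conj_mul, hy])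
  let mk' : ∀ {y : G}, y * s = s * y → ↥(cC z P) := fun {y} hy => ⟨g * y * g⁻¹, hmem hy⟩
  have hord : ∀ {y : G}, orderOf (g * y * g⁻¹) = orderOf y := fun {y} => MulEquiv.orderOf_eq (MulAut.conj g) y
  have hUz : mk' hus = zC := by
    have hu2 : mk' hus * mk' hus = 1 := Subtype.ext (by
      show g * u * g⁻¹ * (g * u * g⁻¹) = 1
      rw [_root_.conj_mul, huu, mul_one, mul_inv_cancel])
    have hf' : orderOf (mk' hfs) = 5 := by rw [Subgroup.orderOf_mk, hord, hf5]
    haveI : Fact (Nat.Prime 5) := ⟨by norm_num⟩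
    have hρf : orderOf (ρ (mk' hfs)) = 5 := by
      refine orderOf_eq_prime (by rw [← map_pow, ← hf', pow_orderOf_eq_one, map_one]) fun e => ?_
      have h6 : mk' hfs ^ 6 = 1 := hcov.six _ (MonoidHom.mem_ker.2 e)
      have := orderOf_dvd_of_pow_eq_one h6
      rw [hf'] at this
      norm_num at this
    have hρu : ρ (mk' hus) ∈ zpowers (ρ (mk' hfs)) := by
      rw [← CfsgLib.J4M22.centralizer_eq_zpowers (Or.inl hρf), mem_centralizer_singleton_iff, ← map_mul, ← map_mul]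
      refine congrArg ρ (Subtype.ext ?_)
      show g * u * g⁻¹ * (g * f * g⁻¹) = g * f * g⁻¹ * (g * u * g⁻¹)
      rw [_root_.conj_mul, _root_.conj_mul, huf]
    have hρu1 : ρ (mk' hus) = 1 := by
      refine orderOf_eq_one_iff.1 (Nat.eq_one_of_dvd_coprimes (show Nat.Coprime 2 5 by norm_num)
        (orderOf_dvd_of_pow_eq_one ?_) (hρf ▸ orderOf_dvd_of_mem_zpowers hρu))
      rw [pow_two, ← map_mul, hu2, map_one]
    rcases hcov.only _ (MonoidHom.mem_ker.2 hρu1) hu2 with e | e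
    · exact absurd (conj_eq_one_iff.1 (congrArg Subtype.val e)) hu1
    · exact e
  have hfused : ∃ C D : ↥(cC z P), C ^ 8 = 1 ∧ D * C * D⁻¹ = C * zC := by
    refine ⟨mk' hcs, mk' hds, Subtype.ext ?_, ?_⟩
    · rw [SubgroupClass.coe_pow]
      show (g * c * g⁻¹) ^ 8 = 1
      rw [conj_pow, hc8, mul_one, mul_inv_cancel]
    · rw [hcov.comm hcov.mem, ← hUz]
      refine Subtype.ext ?_
      show g * d * g⁻¹ * (g * c * g⁻¹) * (g * d * g⁻¹)⁻¹ = g * u * g⁻¹ * (g * c * g⁻¹)
      rw [_root_.conj_mul, _root_.conj_mul, mul_inv_rev, mul_inv_rev, inv_inv, ← hdc]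
      group
  rw [hCp, cl_congr fun y => small_three_iff y]
  exact hcov.cl_two hfused

/-- **Nine classes with largest prime 3.** -/
theorem top_three (hG : ¬ IsMulCommutative G) (hJ : Cfsg.IsOfJankoFourType G) : cl G (Top 3) = 9 := by
  haveI : Fact (Nat.Prime 3) := ⟨Nat.prime_three⟩
  obtain ⟨z, P, hJ⟩ := hJ
  obtain ⟨p, hp⟩ := exists_prime_orderOf_dvd_card' (G := P) 3 (by rw [card_P hJ])
  have hpo : orderOf (p : G) = 3 := by rw [Subgroup.orderOf_coe, hp]
  have h1 := Cfsg.Agent.S5564.result hG ⟨z, P, hJ⟩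
  rw [cl_top (ι := Unit) Nat.prime_three (no_nine hG hJ) (fun _ => (p : G)) (fun _ => hpo)
    (fun _ _ _ => rfl) fun g hg => ⟨(), h1 g p hg hpo⟩]
  rw [Fintype.sum_unique]
  exact cl_C_P hG hJ p.2 hpo

end CfsgLib.J4Classes
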