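import Cfsg.Agent.J4Classes.Big
import Cfsg.Agent.J4Classes.Three
import Cfsg.Agent.J4Classes.Seven

/-!
The number of conjugacy classes of a group of Janko-four type as a sum over the largest prime dividing the
order of an element.
-/

set_option autoImplicit false
set_option linter.style.haveILetI false
set_option linter.unusedSectionVars false

namespace CfsgLib.J4Classes

open Subgroup

variable {G : Type*} [Group G] [Finite G] [IsSimpleGroup G]

/-- The primes dividing the order. -/
theorem prime_of_dvd (hJ : Cfsg.IsOfJankoFourType G) {q : ℕ} (hq : q.Prime) (hd : q ∣ Nat.card G) :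
    q ∈ [2, 3, 5, 7, 11, 23, 29, 31, 37, 43] := by
  obtain ⟨z, hz⟩ := hJ
  rw [CfsgLib.J4Order.order_of_type (z := z) hz] at hd
  have key : ∀ {p k : ℕ}, p.Prime → q ∣ p ^ k → q = p := fun hp h =>
    (Nat.prime_dvd_prime_iff_eq hq hp).1 (hq.dvd_of_dvd_pow h)
  rw [show (86775571046077562880 : ℕ) =
    2 ^ 21 * (3 ^ 3 * (5 ^ 1 * (7 ^ 1 * (11 ^ 3 * (23 ^ 1 * (29 ^ 1 * (31 ^ 1 * (37 ^ 1 * 43 ^ 1)))))))) by
      norm_num] at hd
  rcases hq.dvd_mul.1 hd with h | hd
  · simp [key Nat.prime_two h]
  rcases hq.dvd_mul.1 hd with h | hd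
  · simp [key Nat.prime_three h]
  rcases hq.dvd_mul.1 hd with h | hd
  · simp [key (by norm_num) h]
  rcases hq.dvd_mul.1 hd with h | hd
  · simp [key (by norm_num) h]
  rcases hq.dvd_mul.1 hd with h | hd
  · simp [key (by norm_num) h]
  rcases hq.dvd_mul.1 hd with h | hd
  · simp [key (by norm_num) h]
  rcases hq.dvd_mul.1 hd with h | hd
  · simp [key (by norm_num) h]
  rcases hq.dvd_mul.1 hd with h | hd
  · simp [key (by norm_num) h]
  rcases hq.dvd_mul.1 hd with h | h
  · simp [key (by norm_num) h]
  · simp [key (by norm_num) h]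

/-- One step of the filtration by the largest prime. -/
theorem small_step {a p b : ℕ} (hp : p.Prime) (hap : a ≤ p) (hpb : p < b)
    (hgap : ∀ q : ℕ, q.Prime → q ∣ Nat.card G → a ≤ q → q < b → q = p) :
    cl G (Small b) = cl G (Small a) + cl G (Top p) := by
  have hiff : ∀ g : G, Small b g ↔ Small a g ∨ Top p g := by
    intro g
    constructor
    · intro hg
      by_cases hd : p ∣ orderOf g
      · refine Or.inr ⟨hd, fun q hq hqd => ?_⟩
        by_contra hlt
        rw [not_le] at hlt
        have := hgap q hq (hqd.trans (_root_.orderOf_dvd_natCard g)) (hap.trans hlt.le) (hg q hq hqd)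
        omega
      · refine Or.inl fun q hq hqd => ?_
        by_contra hlt
        rw [not_lt] at hlt
        exact hd (hgap q hq (hqd.trans (_root_.orderOf_dvd_natCard g)) hlt (hg q hq hqd) ▸ hqd)
    · rintro (hg | hg) q hq hqd
      · exact (hg q hq hqd).trans_le (hap.trans hpb.le)
      · exact (hg.2 q hq hqd).trans_lt hpb
  rw [cl_congr hiff, cl_or (inv_small a) fun g hs ht => absurd (hs p hp ht.1) (not_lt.2 hap)]

/-- **Sixty-two classes**, given the counts for 2, 5 and 11. -/
theorem sixty_two (hG : ¬ IsMulCommutative G) (hJ : Cfsg.IsOfJankoFourType G)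
    (h2 : Nat.card {c : ConjClasses G // ∃ g, ConjClasses.mk g = c ∧ ∃ k : ℕ, orderOf g = 2 ^ k} = 10)
    (h5 : cl G (Top 5) = 9) (h11 : cl G (Top 11) = 9) : Nat.card (ConjClasses G) = 62 := by
  have gap : ∀ a p b : ℕ, (∀ q ∈ [2, 3, 5, 7, 11, 23, 29, 31, 37, 43], a ≤ q → q < b → q = p) →
      ∀ q : ℕ, q.Prime → q ∣ Nat.card G → a ≤ q → q < b → q = p := fun a p b h q hq hd =>
    h q (prime_of_dvd hJ hq hd)
  obtain ⟨h23, h29, h31, h37, h43⟩ := top_big hG hJ
  have hall : cl G (Small 44) = Nat.card (ConjClasses G) := by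
    rw [← cl_all]
    refine cl_congr fun g => iff_of_true (fun q hq hd => ?_) trivial
    have := prime_of_dvd hJ hq (hd.trans (_root_.orderOf_dvd_natCard g))
    simp only [List.mem_cons, List.not_mem_nil, or_false] at this
    omega
  have hS3 : cl G (Small 3) = 10 := by
    rw [cl_congr fun g => small_three_iff g]
    exact h2
  rw [← hall,
    small_step (a := 38) (p := 43) (by norm_num) (by norm_num) (by norm_num) (gap _ _ _ (by decide)),
    small_step (a := 32) (p := 37) (by norm_num) (by norm_num) (by norm_num) (gap _ _ _ (by decide)),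
    small_step (a := 30) (p := 31) (by norm_num) (by norm_num) (by norm_num) (gap _ _ _ (by decide)),
    small_step (a := 24) (p := 29) (by norm_num) (by norm_num) (by norm_num) (gap _ _ _ (by decide)),
    small_step (a := 12) (p := 23) (by norm_num) (by norm_num) (by norm_num) (gap _ _ _ (by decide)),
    small_step (a := 8) (p := 11) (by norm_num) (by norm_num) (by norm_num) (gap _ _ _ (by decide)),
    small_step (a := 6) (p := 7) (by norm_num) (by norm_num) (by norm_num) (gap _ _ _ (by decide)),
    small_step (a := 4) (p := 5) (by norm_num) (by norm_num) (by norm_num) (gap _ _ _ (by decide)),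
    small_step (a := 3) (p := 3) (by norm_num) (by norm_num) (by norm_num) (gap _ _ _ (by decide)),
    hS3, top_three hG hJ, h5, top_seven hG hJ, h11, h23, h29, h31, h37, h43]

end CfsgLib.J4Classes
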