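import Cfsg.Agent.J4Classes.Count
import Cfsg.Agent.J4Classes.M22Two

/-!
The classes of 2-elements in a central extension of the Mathieu group of degree 22 by a group of order 6 in
which involutions lift to involutions and some pair of commuting images has a non-trivial commutator: nine.
-/

set_option autoImplicit false
set_option linter.unusedSectionVars false
set_option linter.style.haveILetI false

namespace CfsgLib.J4Classes

open CfsgLib.J4M22 CfsgLib.Golay CfsgLib.Golay.Cert M22Two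

variable {K : Type*} [Group K]

/-- The hypotheses on the extension. -/
structure Cover (ρ : K →* M) (z : K) : Prop where
  surj : Function.Surjective ρ
  cen : ρ.ker ≤ Subgroup.center K
  six : ∀ k ∈ ρ.ker, k ^ 6 = 1
  mem : z ∈ ρ.ker
  ne : z ≠ 1
  sq : z * z = 1
  only : ∀ k ∈ ρ.ker, k * k = 1 → k = 1 ∨ k = z
  lift : ∀ x : M, x * x = 1 → ∃ X, ρ X = x ∧ X * X = 1

namespace Cover

variable {ρ : K →* M} {z : K} (h : Cover ρ z)

include h

theorem comm {k : K} (hk : k ∈ ρ.ker) (g : K) : g * k = k * g := Subgroup.mem_center_iff.1 (h.cen hk) g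

/-- The commutator of two elements with commuting images. -/
theorem exists_e {X C : K} (hc : ρ X * ρ C = ρ C * ρ X) : ∃ e ∈ ρ.ker, X * C * X⁻¹ = e * C :=
  ⟨X * C * X⁻¹ * C⁻¹, by rw [MonoidHom.mem_ker, map_mul, map_mul, map_mul, map_inv, map_inv, hc,
      mul_inv_cancel_right, mul_inv_cancel], by rw [inv_mul_cancel_right]⟩

theorem conj_pow_e {X C e : K} (he : e ∈ ρ.ker) (hx : X * C * X⁻¹ = e * C) (n : ℕ) :
    X ^ n * C * (X ^ n)⁻¹ = e ^ n * C := by
  induction n with
  | zero => simp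
  | succ n ih =>
    calc X ^ (n + 1) * C * (X ^ (n + 1))⁻¹ = X * (X ^ n * C * (X ^ n)⁻¹) * X⁻¹ := by rw [pow_succ']; group
      _ = X * e ^ n * C * X⁻¹ := by rw [ih]; group
      _ = e ^ n * (X * C * X⁻¹) := by rw [h.comm (pow_mem he n) X]; group
      _ = e ^ (n + 1) * C := by rw [hx, pow_succ, mul_assoc]

theorem e_sq_of_invol {X C e : K} (he : e ∈ ρ.ker) (hx : X * C * X⁻¹ = e * C) (hX : X * X = 1) : e * e = 1 := by
  have := h.conj_pow_e he hx 2
  rw [pow_two, hX, one_mul, inv_one, mul_one, pow_two] at this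
  exact mul_eq_right.1 this.symm

/-- A commutator of order prime to itself vanishes. -/
theorem eq_one_of_pow {e : K} {a b : ℕ} (hab : a.Coprime b) (ha : e ^ a = 1) (hb : e ^ b = 1) : e = 1 :=
  orderOf_eq_one_iff.1 (Nat.eq_one_of_dvd_coprimes hab (orderOf_dvd_of_pow_eq_one ha) (orderOf_dvd_of_pow_eq_one hb))

/-- Commutation does not depend on the lifts. -/
theorem commute_congr {X X' C C' : K} (hX : ρ X' = ρ X) (hC : ρ C' = ρ C) (hc : X * C = C * X) :
    X' * C' = C' * X' := by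
  have hk : X⁻¹ * X' ∈ ρ.ker := by rw [MonoidHom.mem_ker, map_mul, map_inv, hX, inv_mul_cancel]
  have hl : C⁻¹ * C' ∈ ρ.ker := by rw [MonoidHom.mem_ker, map_mul, map_inv, hC, inv_mul_cancel]
  calc X' * C' = X * ((X⁻¹ * X') * C) * (C⁻¹ * C') := by group
    _ = X * C * ((X⁻¹ * X') * (C⁻¹ * C')) := by rw [← h.comm hk C]; group
    _ = C * X * ((C⁻¹ * C') * (X⁻¹ * X')) := by rw [hc, h.comm hl (X⁻¹ * X')]
    _ = C * (X * (C⁻¹ * C')) * (X⁻¹ * X') := by group
    _ = C' * X' := by rw [h.comm hl X]; group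

/-- The images of elements commuting with a given one. -/
def good (_h : Cover ρ z) (C : K) : Subgroup M := (Subgroup.centralizer ({C} : Set K)).map ρ

theorem mem_good {C : K} {x : M} : x ∈ h.good C ↔ ∀ X, ρ X = x → X * C = C * X := by
  constructor
  · rintro ⟨Y, hY, rfl⟩ X hX
    exact h.commute_congr hX rfl (Subgroup.mem_centralizer_singleton_iff.1 hY)
  · intro hx
    obtain ⟨X, rfl⟩ := h.surj x
    exact ⟨X, Subgroup.mem_centralizer_singleton_iff.2 (hx X rfl), rfl⟩

/-- Commuting involutions have commuting lifts. -/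
theorem invol_good {X : K} (hX : X * X = 1) {y : M} (hy : y * y = 1) (hc : y * ρ X = ρ X * y) :
    y ∈ h.good X := by
  obtain ⟨Y, rfl, hY⟩ := h.lift y hy
  obtain ⟨e, he, hxy⟩ := h.exists_e hc
  have he2 := h.e_sq_of_invol he hxy hY
  obtain ⟨W, hW, hW2⟩ := h.lift (ρ Y * ρ X) (by
    rw [show ρ Y * ρ X * (ρ Y * ρ X) = ρ Y * (ρ X * ρ Y) * ρ X by group, ← hc,
      show ρ Y * (ρ Y * ρ X) * ρ X = (ρ Y * ρ Y) * (ρ X * ρ X) by group, hy, ← map_mul, hX, map_one, one_mul])
  set k := W⁻¹ * (Y * X)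
  have hk : k ∈ ρ.ker := by rw [MonoidHom.mem_ker, map_mul, map_inv, map_mul, hW, inv_mul_cancel]
  have hYX : Y * X = W * k := by rw [mul_inv_cancel_left]
  have hek : e = k * k := by
    calc e = e * X * X := by rw [mul_assoc, hX, mul_one]
      _ = Y * X * Y⁻¹ * X := by rw [hxy]
      _ = Y * X * (Y * X) := by rw [inv_eq_of_mul_eq_one_left hY]; group
      _ = W * (k * W) * k := by rw [hYX]; group
      _ = (W * W) * (k * k) := by rw [← h.comm hk W]; group
      _ = k * k := by rw [hW2, one_mul]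
  have he1 : e = 1 := eq_one_of_pow h (show Nat.Coprime 2 3 by norm_num) (by rw [pow_two, he2])
    (by rw [hek, ← pow_two, ← pow_mul]; exact h.six k hk)
  rw [h.mem_good]
  intro Y' hY'
  refine h.commute_congr hY' rfl ?_
  rw [he1, one_mul] at hxy
  exact mul_inv_eq_iff_eq_mul.1 hxy

/-- Elements of order 3 commute with lifts of 2-elements. -/
theorem three_good {C : K} {n : ℕ} (hC : C ^ 2 ^ n = 1) {y : M} (hy : y ^ 3 = 1) (hc : y * ρ C = ρ C * y) :
    y ∈ h.good C := by
  obtain ⟨Y, rfl⟩ := h.surj y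
  obtain ⟨e, he, hxy⟩ := h.exists_e hc
  have h3 : e ^ 3 = 1 := by
    have h' := h.conj_pow_e he hxy 3
    have hk : Y ^ 3 ∈ ρ.ker := by rw [MonoidHom.mem_ker, map_pow, hy]
    rw [← h.comm hk C, mul_inv_cancel_right] at h'
    exact mul_eq_right.1 h'.symm
  have h2 : e ^ 2 ^ n = 1 := by
    have h' := congrArg (· ^ 2 ^ n) hxy
    simp only [conj_pow, (show Commute e C from (h.comm he C).symm).mul_pow, hC, mul_one, mul_inv_cancel] at h'
    exact h'.symm
  have he1 : e = 1 := eq_one_of_pow h (show Nat.Coprime 3 (2 ^ n) from (Nat.Coprime.pow_left n (by norm_num)).symm)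
    h3 h2
  rw [h.mem_good]
  intro Y' hY'
  refine h.commute_congr hY' rfl ?_
  rw [he1, one_mul] at hxy
  exact mul_inv_eq_iff_eq_mul.1 hxy

/-- The lifts of the central involution commute with the lifts of its centraliser. -/
theorem split_z {C : K} (hC : ρ C = zE) {x : M} (hx : x * zE = zE * x) : x ∈ h.good C := by
  obtain ⟨Z, hZ, hZ2⟩ := h.lift zE (by rw [← pow_two, ← orderOf_zE, pow_orderOf_eq_one])
  suffices hs : x ∈ h.good Z by
    rw [h.mem_good] at hs ⊢
    exact fun X hX => h.commute_congr rfl (hC.trans hZ.symm) (hs X hX)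
  have hT : T ≤ h.good Z := T_le_of_involutions _ fun y hy hy2 => h.invol_good hZ2 hy2 (by
    rw [hZ]; exact Subgroup.mem_centralizer_singleton_iff.1 (T_le_centralizer hy))
  obtain ⟨-, -, hr3, hrz, -⟩ := relations
  have hr : tauR ∈ h.good Z := h.three_good (n := 1) (by rw [pow_one, pow_two, hZ2])
    (by rw [← hr3, pow_orderOf_eq_one]) (by rw [hZ]; exact hrz)
  obtain ⟨t, ht, rfl | rfl | rfl⟩ := cen_z hx
  · exact hT ht
  · exact mul_mem (hT ht) hr
  · exact mul_mem (hT ht) (mul_mem hr hr)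

/-- The lifts of the element of order 8 commute with the lifts of its centraliser. -/
theorem split_eight {C : K} (hC : ρ C = eightE) {x : M} (hx : x * eightE = eightE * x) : x ∈ h.good C := by
  obtain ⟨i, rfl⟩ := cen_eight hx
  exact pow_mem (show eightE ∈ h.good C from ⟨C, Subgroup.mem_centralizer_singleton_iff.2 rfl, hC⟩) i

/-- The lifts of the square of the element of order 8 commute with the lifts of its centraliser. -/
theorem split_four {C : K} (hC : ρ C = fourA) {x : M} (hx : x * fourA = fourA * x) : x ∈ h.good C := by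
  obtain ⟨h88, h84, -, -, -, -, hd1, hd2, hh1, hh2, hc1, hc2, -⟩ := relations
  have hz : fourA * fourA = zE := by
    rw [← h84, show 4 = 2 * 2 from rfl, pow_mul, pow_two eightE, h88, pow_two]
  have gen : ∀ d g : M, d * d = 1 → g * fourA * g⁻¹ = fourA * d → d * fourA = fourA * d → d ∈ h.good C := by
    intro d g hd hg hdc
    obtain ⟨D, rfl, hD⟩ := h.lift d hd
    obtain ⟨H, rfl⟩ := h.surj g
    obtain ⟨e, he, hx⟩ := h.exists_e (X := D) (C := C) (by rw [hC]; exact hdc)
    have he2 := h.e_sq_of_invol he hx hD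
    set k := H * C * H⁻¹ * (D * C)⁻¹
    have hk : k ∈ ρ.ker := by
      rw [MonoidHom.mem_ker, map_mul, map_mul, map_mul, map_inv, map_inv, map_mul, hC, hg, hdc, mul_inv_cancel]
    have hH : H * C * H⁻¹ = k * (D * C) := by rw [inv_mul_cancel_right]
    have hgz : ρ H * zE = zE * ρ H := by
      rw [← mul_inv_eq_iff_eq_mul, ← hz]
      calc ρ H * (fourA * fourA) * (ρ H)⁻¹ = (ρ H * fourA * (ρ H)⁻¹) * (ρ H * fourA * (ρ H)⁻¹) := by group
        _ = fourA * (ρ D * fourA) * ρ D := by rw [hg]; group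
        _ = fourA * fourA * (ρ D * ρ D) := by rw [hdc]; group
        _ = fourA * fourA := by rw [hd, mul_one]
    have hcc : H * (C * C) = C * C * H :=
      (h.mem_good.1 (h.split_z (C := C * C) (by rw [map_mul, hC, hz]) hgz)) H rfl
    have hkey : k * k * e = 1 := by
      have hDi : D⁻¹ = D := inv_eq_of_mul_eq_one_left hD
      have hDC : D * C * (D * C) = e * (C * C) := by
        calc D * C * (D * C) = (D * C * D⁻¹) * C := by rw [hDi]; group
          _ = e * (C * C) := by rw [hx, mul_assoc]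
      have hsq : C * C = k * k * e * (C * C) := by
        calc C * C = H * (C * C) * H⁻¹ := by rw [hcc, mul_inv_cancel_right]
          _ = (H * C * H⁻¹) * (H * C * H⁻¹) := by group
          _ = k * (D * C * k) * (D * C) := by rw [hH]; group
          _ = k * k * (D * C * (D * C)) := by rw [h.comm hk (D * C)]; group
          _ = k * k * e * (C * C) := by rw [hDC]; group
      exact mul_eq_right.1 hsq.symm
    have hkk : k * k = e := by rw [eq_inv_of_mul_eq_one_left hkey, inv_eq_of_mul_eq_one_left he2]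
    have he1 : e = 1 := eq_one_of_pow h (show Nat.Coprime 2 3 by norm_num) (by rw [pow_two, he2])
      (by rw [← hkk, ← pow_two, ← pow_mul]; exact h.six k hk)
    rw [he1, one_mul] at hx
    exact ⟨D, Subgroup.mem_centralizer_singleton_iff.2 (mul_inv_eq_iff_eq_mul.1 hx), rfl⟩
  have h8 : eightE ∈ h.good C := by
    obtain ⟨E, hE⟩ := h.surj eightE
    rw [h.mem_good]
    intro X hX
    exact h.commute_congr (X := E) (C := E * E) (hX.trans hE.symm) (by rw [hC, map_mul, hE, h88])
      (mul_assoc E E E).symm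
  obtain ⟨i, rfl | rfl | rfl | rfl⟩ := cen_four hx
  · exact pow_mem h8 i
  · exact mul_mem (pow_mem h8 i) (gen _ _ hd1 hh1 hc1)
  · exact mul_mem (pow_mem h8 i) (gen _ _ hd2 hh2 hc2)
  · exact mul_mem (pow_mem h8 i) (mul_mem (gen _ _ hd1 hh1 hc1) (gen _ _ hd2 hh2 hc2))

/-- A 2-element over a 2-element. -/
theorem exists_lift {x : M} (hx : x ^ 8 = 1) : ∃ X : K, ρ X = x ∧ X ^ 16 = 1 := by
  obtain ⟨X, rfl⟩ := h.surj x
  have hk : X ^ 8 ∈ ρ.ker := by rw [MonoidHom.mem_ker, map_pow, hx]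
  refine ⟨X ^ 9, by rw [map_pow, pow_succ, hx, one_mul], ?_⟩
  rw [← pow_mul, show 9 * 16 = 8 * (6 * 3) from rfl, pow_mul, pow_mul, h.six _ hk, one_pow]

/-- An element over a split representative is not conjugate to its product with `z`. -/
theorem not_conj_z {k : ℕ} (hk : k < 5) (hk3 : k ≠ 3) {C D : K} (hC : ρ C = rep k) :
    D * C * D⁻¹ ≠ C * z := by
  intro hD
  have hc : ρ D * rep k = rep k * ρ D := by
    rw [← mul_inv_eq_iff_eq_mul, ← hC, ← map_inv, ← map_mul, ← map_mul, hD, map_mul,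
      MonoidHom.mem_ker.1 h.mem, mul_one]
  have hgood : ρ D ∈ h.good C := by
    interval_cases k
    · refine h.mem_good.2 fun X _ => ?_
      exact h.comm (by rw [MonoidHom.mem_ker]; exact hC) X
    · exact h.split_z hC hc
    · exact h.split_four hC hc
    · exact absurd rfl hk3
    · exact h.split_eight hC hc
  rw [h.mem_good.1 hgood D rfl, mul_inv_cancel_right, left_eq_mul] at hD
  exact h.ne hD

/-- **Nine classes of 2-elements.** -/
theorem cl_two [Finite K] (hfused : ∃ C D : K, C ^ 8 = 1 ∧ D * C * D⁻¹ = C * z) :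
    cl K (fun g => ∃ n : ℕ, orderOf g = 2 ^ n) = 9 := by
  classical
  obtain ⟨C0, D0, hC8, hfus⟩ := hfused
  obtain ⟨h88, h84, -, -, -, -, -, -, -, -, -, -, hB8⟩ := relations
  have h8 : eightE ^ 8 = 1 := by
    rw [show 8 = 4 * 2 from rfl, pow_mul, h84, ← orderOf_zE, pow_orderOf_eq_one]
  have hrep : ∀ k < 5, rep k ^ 8 = 1 := by
    intro k hk
    interval_cases k
    · exact one_pow 8
    · show zE ^ 8 = 1
      rw [show 8 = 2 * 4 from rfl, pow_mul, ← orderOf_zE, pow_orderOf_eq_one, one_pow]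
    · show fourA ^ 8 = 1
      rw [← h88, ← pow_two, ← pow_mul, show 2 * 8 = 8 * 2 from rfl, pow_mul, h8, one_pow]
    · exact hB8
    · exact h8
  -- the fused element lies over the remaining class
  obtain ⟨k0, hk0, hk0c⟩ := M22Two.exists_rep (x := ρ C0) (n := 3)
    (by rw [← map_pow, show 2 ^ 3 = 8 from rfl, hC8, map_one])
  have hfuse : ∀ C : K, ρ C = rep k0 → IsConj C (C * z) := by
    intro C hC
    obtain ⟨c, hc⟩ := isConj_iff.1 hk0c
    obtain ⟨A, rfl⟩ := h.surj c
    have hk : (A * C0 * A⁻¹)⁻¹ * C ∈ ρ.ker := by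
      rw [MonoidHom.mem_ker, map_mul, map_inv, map_mul, map_mul, map_inv, hc, hC, inv_mul_cancel]
    set l := (A * C0 * A⁻¹)⁻¹ * C
    have hC' : C = A * C0 * A⁻¹ * l := by rw [mul_inv_cancel_left]
    refine isConj_iff.2 ⟨A * D0 * A⁻¹, ?_⟩
    have hl := h.comm hk
    have hz := h.comm h.mem
    calc A * D0 * A⁻¹ * C * (A * D0 * A⁻¹)⁻¹
        = A * D0 * A⁻¹ * (A * C0 * A⁻¹ * l) * (A * D0 * A⁻¹)⁻¹ := by rw [hC']
      _ = A * D0 * C0 * A⁻¹ * (l * (A * D0⁻¹ * A⁻¹)) := by group
      _ = A * (D0 * C0 * D0⁻¹) * A⁻¹ * l := by rw [← hl]; group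
      _ = A * C0 * (z * A⁻¹) * l := by rw [hfus]; group
      _ = A * C0 * A⁻¹ * (z * l) := by rw [← hz]; group
      _ = C * z := by rw [hC', hl z, ← mul_assoc]
  have hk03 : k0 = 3 := by
    by_contra hne
    obtain ⟨C, hC⟩ := h.surj (rep k0)
    obtain ⟨D, hD⟩ := isConj_iff.1 (hfuse C hC)
    exact h.not_conj_z hk0 hne hC hD
  -- distinct classes below
  have hord : ∀ i < 5, ∀ j < 5, IsConj (rep i) (rep j) → i ≠ j → i = 2 ∧ j = 3 ∨ i = 3 ∧ j = 2 := by
    intro i hi j hj hc hne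
    have ho := orderOf_of_isConj hc
    have o1 : orderOf (rep 0) = 1 := orderOf_one
    have o2 : orderOf (rep 1) = 2 := orderOf_zE
    have hz1 : zE ≠ 1 := fun e => by
      have := orderOf_zE
      rw [e, orderOf_one] at this
      norm_num at this
    haveI : Fact (Nat.Prime 2) := ⟨Nat.prime_two⟩
    have o4 : orderOf (rep 4) = 2 ^ 3 := orderOf_eq_prime_pow (p := 2) (n := 2)
      (by show ¬ eightE ^ 4 = 1; rw [h84]; exact hz1) h8
    have oA : orderOf (rep 2) = 2 ^ 2 := by
      have hz : fourA ^ 2 = zE := by rw [← h88, ← pow_two, ← pow_mul, h84]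
      refine orderOf_eq_prime_pow (p := 2) (n := 1) ?_ ?_
      · show ¬ fourA ^ 2 = 1
        rw [hz]; exact hz1
      · show fourA ^ 4 = 1
        rw [show 4 = 2 * 2 from rfl, pow_mul, hz, ← orderOf_zE, pow_orderOf_eq_one]
    have oB : orderOf (rep 3) ≠ 1 ∧ orderOf (rep 3) ≠ 2 ∧ orderOf (rep 3) ≠ 2 ^ 3 := by
      have hpc : powL fourBL 4 = List.range 24 ∧ powL fourBL 2 ≠ List.range 24 := by decide +kernel
      obtain ⟨-, -, -, lB, -⟩ := lst_facts
      have h4 : fourB ^ 4 = 1 := lst_injective (by rw [lst_pow, lB, hpc.1, lst_one])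
      have h2 : ¬ fourB ^ 2 = 1 := fun e => hpc.2 (by rw [← lB, ← lst_pow, e, lst_one])
      have : orderOf fourB = 2 ^ 2 := orderOf_eq_prime_pow (p := 2) (n := 1) h2 h4
      show orderOf fourB ≠ 1 ∧ orderOf fourB ≠ 2 ∧ orderOf fourB ≠ 2 ^ 3
      omega
    interval_cases i <;> interval_cases j <;> omega
  have hAB : ¬ IsConj (rep 3) (rep 2) := by
    intro hc
    obtain ⟨c, hc⟩ := isConj_iff.1 hc
    obtain ⟨A, rfl⟩ := h.surj c
    obtain ⟨C, hC⟩ := h.surj (rep 3)
    obtain ⟨D, hD⟩ := isConj_iff.1 (hfuse C (by rw [hk03]; exact hC))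
    refine h.not_conj_z (k := 2) (by norm_num) (by norm_num) (C := A * C * A⁻¹) (D := A * D * A⁻¹)
      (by rw [map_mul, map_mul, map_inv, hC, hc]) ?_
    calc A * D * A⁻¹ * (A * C * A⁻¹) * (A * D * A⁻¹)⁻¹ = A * (D * C * D⁻¹) * A⁻¹ := by group
      _ = A * C * (z * A⁻¹) := by rw [hD]; group
      _ = A * C * A⁻¹ * z := by rw [← h.comm h.mem A⁻¹]; group
  have hsame : ∀ i < 5, ∀ j < 5, IsConj (rep i) (rep j) → i = j := by
    intro i hi j hj hc
    by_contra hne
    rcases hord i hi j hj hc hne with ⟨rfl, rfl⟩ | ⟨rfl, rfl⟩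
    · exact hAB hc.symm
    · exact hAB hc
  -- representatives upstairs
  choose L hLρ hL16 using fun k : Fin 5 => h.exists_lift (hrep k k.2)
  let idx : Fin 4 → Fin 5 := ![0, 1, 2, 4]
  let r : (Fin 4 × Bool) ⊕ Unit → K := fun s => match s with
    | Sum.inl (i, b) => L (idx i) * cond b z 1
    | Sum.inr _ => L 3
  have hzρ : ∀ b : Bool, ρ (cond b z 1) = 1 := by
    intro b; cases b
    · exact map_one ρ
    · exact MonoidHom.mem_ker.1 h.mem
  have hrρ : ∀ s, ∃ k : Fin 5, ρ (r s) = rep k ∧ (∀ i b, s = Sum.inl (i, b) → k = idx i) ∧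
      (s = Sum.inr () → k = 3) := by
    rintro (⟨i, b⟩ | u)
    · exact ⟨idx i, by show ρ (L (idx i) * cond b z 1) = _; rw [map_mul, hzρ, mul_one, hLρ],
        fun i' b' e => by simp only [Sum.inl.injEq, Prod.mk.injEq] at e; rw [e.1], fun e => by simp at e⟩
    · exact ⟨3, hLρ 3, fun i' b' e => by simp at e, fun _ => rfl⟩
  rw [cl_reps (ι := (Fin 4 × Bool) ⊕ Unit) r]
  · simp
  · intro s
    have h16 : r s ^ 16 = 1 := by
      rcases s with ⟨i, b⟩ | u
      · show (L (idx i) * cond b z 1) ^ 16 = 1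
        have hb : cond b z 1 ∈ ρ.ker := MonoidHom.mem_ker.2 (hzρ b)
        rw [(show Commute (L (idx i)) (cond b z 1) from h.comm hb _).mul_pow, hL16, one_mul]
        cases b
        · exact one_pow 16
        · show z ^ 16 = 1
          rw [show 16 = 2 * 8 from rfl, pow_mul, pow_two, h.sq, one_pow]
      · exact hL16 3
    obtain ⟨n, -, hn⟩ := (Nat.dvd_prime_pow Nat.prime_two).1
      (orderOf_dvd_of_pow_eq_one (show r s ^ 2 ^ 4 = 1 from h16))
    exact ⟨n, hn⟩
  · intro s t hc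
    obtain ⟨k, hk, hks, hks'⟩ := hrρ s
    obtain ⟨l, hl, hlt, hlt'⟩ := hrρ t
    have hkl : k = l := Fin.ext (hsame k k.2 l l.2 (hk ▸ hl ▸ ρ.map_isConj hc))
    have hidx : Function.Injective idx := by decide
    have hi3 : ∀ i, idx i ≠ 3 := by decide
    rcases s with ⟨i, b⟩ | ⟨⟩ <;> rcases t with ⟨j, b'⟩ | ⟨⟩
    · obtain rfl : i = j := hidx (by rw [← hks i b rfl, hkl, hlt j b' rfl])
      congr
      by_contra hbb
      obtain ⟨D, hD⟩ := isConj_iff.1 (show IsConj (L (idx i) * cond b z 1) (L (idx i) * cond b' z 1) from hc)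
      refine h.not_conj_z (idx i).2 (fun e => hi3 i (Fin.ext e)) (C := L (idx i) * cond b z 1) (D := D)
        (by rw [map_mul, hzρ, mul_one, hLρ]) ?_
      rw [hD]
      cases b <;> cases b'
      · exact absurd rfl hbb
      · show L (idx i) * z = L (idx i) * 1 * z
        rw [mul_one]
      · show L (idx i) * 1 = L (idx i) * z * z
        rw [mul_assoc, h.sq]
      · exact absurd rfl hbb
    · exact absurd (by rw [← hks i b rfl, hkl, hlt' rfl]) (hi3 i)
    · exact absurd (by rw [← hlt j b' rfl, ← hkl, hks' rfl]) (hi3 j)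
    · rfl
  · rintro g ⟨n, hn⟩
    have hg : g ^ 2 ^ n = 1 := by rw [← hn, pow_orderOf_eq_one]
    obtain ⟨k, hk, hc⟩ := M22Two.exists_rep (x := ρ g) (n := n) (by rw [← map_pow, hg, map_one])
    obtain ⟨c, hc⟩ := isConj_iff.1 hc
    obtain ⟨A, rfl⟩ := h.surj c
    set g' := A * g * A⁻¹
    have hgg : IsConj g g' := isConj_iff.2 ⟨A, rfl⟩
    have hg'ρ : ρ g' = rep k := by rw [map_mul, map_mul, map_inv, hc]
    have hg' : g' ^ 2 ^ n = 1 := by rw [conj_pow, hg, mul_one, mul_inv_cancel]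
    set k' : Fin 5 := ⟨k, hk⟩
    set l := (L k')⁻¹ * g'
    have hl : l ∈ ρ.ker := by rw [MonoidHom.mem_ker, map_mul, map_inv, hLρ, hg'ρ, inv_mul_cancel]
    have hl2 : l * l = 1 := by
      have hp : l ^ (16 * 2 ^ n) = 1 := by
        have he : g' = L k' * l := by rw [mul_inv_cancel_left]
        have hp := congrArg (· ^ (16 * 2 ^ n)) he
        simp only [(show Commute (L k') l from h.comm hl _).mul_pow] at hp
        rw [mul_comm 16, pow_mul, hg', one_pow, mul_comm (2 ^ n), pow_mul (L k'), hL16, one_pow, one_mul] at hp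
        exact hp.symm
      have h2 : orderOf l ∣ 2 := by
        have ha : orderOf l ∣ Nat.gcd (16 * 2 ^ n) 6 :=
          Nat.dvd_gcd (orderOf_dvd_of_pow_eq_one hp) (orderOf_dvd_of_pow_eq_one (h.six l hl))
        refine ha.trans ?_
        rw [show 16 * 2 ^ n = 2 * (8 * 2 ^ n) by ring, show 6 = 2 * 3 from rfl, Nat.gcd_mul_left,
          (Nat.Coprime.mul_left (by norm_num) (Nat.Coprime.pow_left n (by norm_num)) : Nat.Coprime (8 * 2 ^ n) 3).gcd_eq_one]
      rw [← pow_two]; exact orderOf_dvd_iff_pow_eq_one.1 h2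
    have hgl : g' = L k' * l := by rw [mul_inv_cancel_left]
    by_cases h3 : k' = 3
    · refine ⟨Sum.inr (), ?_⟩
      rcases h.only l hl hl2 with rfl' | rfl'
      · rw [show r (Sum.inr ()) = g' by rw [hgl, rfl', mul_one, h3]]; exact hgg
      · refine hgg.trans ?_
        show IsConj g' (L 3)
        rw [hgl, rfl', h3]
        exact (hfuse (L 3) (by rw [hk03]; exact hLρ 3)).symm
    · obtain ⟨i, hi⟩ : ∃ i, idx i = k' := by
        have : ∀ k : Fin 5, k ≠ 3 → ∃ i, idx i = k := by decide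
        exact this k' h3
      rcases h.only l hl hl2 with rfl' | rfl'
      · refine ⟨Sum.inl (i, false), hgg.trans ?_⟩
        rw [show r (Sum.inl (i, false)) = g' by rw [hgl, rfl', ← hi]; rfl]
      · refine ⟨Sum.inl (i, true), hgg.trans ?_⟩
        rw [show r (Sum.inl (i, true)) = g' by rw [hgl, rfl', ← hi]; rfl]

end Cover

end CfsgLib.J4Classes
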