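import Cfsg.Agent.J4Classes.TwoRank
import Cfsg.Agent.J4Type.RowsMain
import Cfsg.Agent.Coset.J4.Main
import Cfsg.Prelude.Def_JankoFourType

/-!
A simple group of Janko-four type has ten classes of elements of two-power order.
-/

set_option autoImplicit false
set_option maxRecDepth 100000

namespace CfsgLib.J4Classes

/-- Ten conjugacy classes consist of elements of two-power order (the identity included). -/
theorem two_classes {G : Type*} [Group G] [Finite G] [IsSimpleGroup G] (hG : ¬ IsMulCommutative G)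
    (hJ : Cfsg.IsOfJankoFourType G) :
    Nat.card {c : ConjClasses G // ∃ g, ConjClasses.mk g = c ∧ ∃ k : ℕ, orderOf g = 2 ^ k} = 10 := by
  obtain ⟨z, hz⟩ := hJ
  obtain ⟨e⟩ := CfsgLib.J4Type.iso_of_inputs CfsgLib.Coset.J4.isJ4 CfsgLib.J4Type.inputs hz
  have hconj : ∀ {a b : G}, IsConj (e a) (e b) → IsConj a b := fun h => by
    simpa using e.symm.toMonoidHom.map_isConj h
  have hord : ∀ n : Fin 10, ∃ k : ℕ, orderOf (e.symm (Two.sel n)) = 2 ^ k := fun n => by
    rw [e.symm.orderOf_eq]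
    obtain ⟨k, -, hk⟩ := (Nat.dvd_prime_pow Nat.prime_two).1
      (orderOf_dvd_of_pow_eq_one (Two.sel_pow n n.2))
    exact ⟨k, hk⟩
  let f : Fin 10 → {c : ConjClasses G // ∃ g, ConjClasses.mk g = c ∧ ∃ k : ℕ, orderOf g = 2 ^ k} :=
    fun n => ⟨ConjClasses.mk (e.symm (Two.sel n)), _, rfl, hord n⟩
  have hf : Function.Bijective f := by
    refine ⟨fun m n h => ?_, ?_⟩
    · have h1 := ConjClasses.mk_eq_mk_iff_isConj.1 (congrArg Subtype.val h)
      have h2 := e.toMonoidHom.map_isConj h1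
      simp only [MulEquiv.coe_toMonoidHom, MulEquiv.apply_symm_apply] at h2
      exact Fin.ext (Two.sel_separated m.2 n.2 h2)
    · rintro ⟨c, g, rfl, k, hk⟩
      obtain ⟨n, hn, h⟩ := Two.exists_sel (g := e g) (k := k) (by rw [e.orderOf_eq, hk])
      exact ⟨⟨n, hn⟩, Subtype.ext (ConjClasses.mk_eq_mk_iff_isConj.2
        (hconj (by simpa using h.symm)))⟩
  rw [← Nat.card_congr (Equiv.ofBijective f hf), Nat.card_fin]

end CfsgLib.J4Classes
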