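import Cfsg.Agent.J4Classes.TwoKit

/-!
Fusion of the twenty-seven classes of pairs into ten through the third generator.
-/

set_option autoImplicit false
set_option maxRecDepth 100000
set_option Elab.async false

namespace CfsgLib.J4Classes.Two

open CfsgLib.Coset CfsgLib.Coset.J4
open CfsgLib.Coset.J4.Inst (gens)

section Kernel

/-- A pair given by a word and a vector. -/
noncomputable def pairW (h : List Nat × Nat) : Nat × Nat := (wordP h.1, h.2)

/-- A word in three letters. -/
noncomputable def small3 (w : List Nat) : Bool := allList (fun l => Nat.ble (Nat.add l 1) 3) w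

/-- One fusion. -/
noncomputable def edgeOK
    (e : Nat × Nat × (List Nat × Nat) × (List Nat × Nat) × (List Nat × Nat)) : Bool :=
  cond (cond (small3 e.2.2.1.1) (cond (small3 e.2.2.2.1.1) (small3 e.2.2.2.2.1) false) false)
    (cond (eEq (ctxJ.mul (clsE e.1) (pairW e.2.2.1))
        (ctxJ.mul (pairW e.2.2.1) (pairW e.2.2.2.1)))
      (cond (ctxJ.inK (pairW e.2.2.2.1))
        (eEq (ctxJ.mul (ctxJ.phi (pairW e.2.2.2.1)) (pairW e.2.2.2.2))
          (ctxJ.mul (pairW e.2.2.2.2) (clsE e.2.1))) false) false) false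

end Kernel

theorem edges_ok : allList edgeOK edgeL = true := by decide +kernel

theorem edge_sound {e : Nat × Nat × (List Nat × Nat) × (List Nat × Nat) × (List Nat × Nat)}
    (h : edgeOK e = true) : IsConj (ev2 (clsE e.1)) (ev2 (clsE e.2.1)) := by
  obtain ⟨a, b, h1, k, h2⟩ := e
  unfold edgeOK at h
  simp only [cond_false_eq_true] at h
  obtain ⟨⟨w1, wk, w2⟩, e1, hin, e2⟩ := h
  have vw : ∀ {w : List Nat}, small3 w = true → gens.UF.Val (wordP w) := fun hw =>
    (val_word gens _ fun l hl => Nat.ble_eq.mp (allList_iff.mp hw l hl)).1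
  have va : gens.UF.Val (clsE a).1 := val_rep _
  have vb : gens.UF.Val (clsE b).1 := val_rep _
  obtain ⟨p1, p2, -⟩ := (cdata gens).inK_sound (k := pairW k) (vw wk) hin
  have c1 := congrArg ev2 (eEq_iff e1)
  have c2 := congrArg ev2 (eEq_iff e2)
  rw [ev2_mul va (vw w1), ev2_mul (vw w1) (vw wk)] at c1
  rw [ev2_mul p1 (vw w2), ev2_mul (vw w2) vb] at c2
  refine (isConj_of_mul c1).trans (IsConj.trans ?_ (isConj_of_mul c2))
  refine isConj_of_mul (h := gens.UF.t) ?_
  show gens.UF.val ctxJ (pairW k) * gens.UF.t = gens.UF.t * gens.UF.val ctxJ _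
  rw [← p2]
  simp only [← mul_assoc, gens.UF.tt, one_mul]

section Kernel

/-- Identify the labels of two classes. -/
noncomputable def relabel (l : List Nat) (a b : Nat) : List Nat :=
  l.map fun x => cond (Nat.beq x (l.getD b 0)) (l.getD a 0) x

/-- The labels after all fusions. -/
noncomputable def labels : List Nat :=
  edgeL.foldl (fun l e => relabel l e.1 e.2.1) (List.range 27)

end Kernel

theorem labels_sound : ∀ c < 27, IsConj (ev2 (clsE c)) (ev2 (clsE (labels.getD c 0))) := by
  have key : ∀ L : List (Nat × Nat × (List Nat × Nat) × (List Nat × Nat) × (List Nat × Nat)),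
      (∀ e ∈ L, edgeOK e = true ∧ e.1 < 27 ∧ e.2.1 < 27) → ∀ l : List Nat, l.length = 27 →
      (∀ c < 27, IsConj (ev2 (clsE c)) (ev2 (clsE (l.getD c 0)))) →
      ∀ c < 27, IsConj (ev2 (clsE c))
        (ev2 (clsE ((L.foldl (fun l e => relabel l e.1 e.2.1) l).getD c 0))) := by
    intro L
    induction L with
    | nil => exact fun _ _ _ h => h
    | cons e L ih =>
      intro hL l hlen hl
      obtain ⟨he, ha, hb⟩ := hL e List.mem_cons_self
      rw [List.foldl_cons]
      refine ih (fun x hx => hL x (List.mem_cons_of_mem _ hx)) (relabel l e.1 e.2.1)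
        (by rw [relabel, List.length_map, hlen]) ?_
      intro c hc
      have hg : (relabel l e.1 e.2.1).getD c 0 =
          cond (Nat.beq (l.getD c 0) (l.getD e.2.1 0)) (l.getD e.1 0) (l.getD c 0) := by
        rw [relabel, List.getD_eq_getElem _ _ (by rw [List.length_map, hlen]; exact hc),
          List.getElem_map, ← List.getD_eq_getElem l 0 (by rw [hlen]; exact hc)]
      rw [hg]
      cases hx : Nat.beq (l.getD c 0) (l.getD e.2.1 0) with
      | false => exact hl c hc
      | true =>
        have h1 := hl c hc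
        rw [Nat.eq_of_beq_eq_true hx] at h1
        exact ((h1.trans (hl _ hb).symm).trans (edge_sound he).symm).trans (hl _ ha)
  have hlt : ∀ e ∈ edgeL, e.1 < 27 ∧ e.2.1 < 27 := by decide +kernel
  refine key edgeL (fun e he => ⟨allList_iff.mp edges_ok e he, hlt e he⟩) _ (by rfl) ?_
  intro c hc
  rw [List.getD_eq_getElem _ _ (by simpa using hc), List.getElem_range]

theorem labels_sel : ∀ c < 27, ∃ n < 10, selL.getD n 0 < 27 ∧
    labels.getD c 0 = labels.getD (selL.getD n 0) 0 := by decide +kernel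

/-- The ten chosen elements. -/
noncomputable def sel (n : Nat) : Cfsg.Spor.J4 := ev2 (clsE (selL.getD n 0))

theorem cls_to_sel {c : Nat} (hc : c < 27) : ∃ n < 10, IsConj (ev2 (clsE c)) (sel n) := by
  obtain ⟨n, hn, h27, e⟩ := labels_sel c hc
  have h1 := labels_sound c hc
  rw [e] at h1
  exact ⟨n, hn, h1.trans (labels_sound _ h27).symm⟩

/-- Every two-element is conjugate to one of ten. -/
theorem exists_sel {g : Cfsg.Spor.J4} {k : ℕ} (hk : orderOf g = 2 ^ k) :
    ∃ n < 10, IsConj g (sel n) := by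
  obtain ⟨a, ha, h⟩ := exists_cls hk
  obtain ⟨n, hn, h'⟩ := cls_to_sel ha
  exact ⟨n, hn, h.trans h'⟩

section Kernel

/-- Four squarings give the identity pair. -/
noncomputable def sq4OK (e : Nat × Nat) : Bool :=
  (fun a => (fun b => (fun c => eEq (ctxJ.mul c c) (pone, 0)) (ctxJ.mul b b)) (ctxJ.mul a a))
    (ctxJ.mul e e)

end Kernel

theorem sq4_all : ∀ a < 27, sq4OK (clsE a) = true := by decide +kernel

theorem sel_pow (n : Nat) (hn : n < 10) : sel n ^ 2 ^ 4 = 1 := by
  have h27 : ∀ n < 10, selL.getD n 0 < 27 := by decide +kernel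
  have h := eEq_iff (sq4_all _ (h27 n hn))
  have v0 : gens.UF.Val (clsE (selL.getD n 0)).1 := val_rep _
  unfold sel
  generalize clsE (selL.getD n 0) = e at h v0 ⊢
  obtain ⟨v1, e1⟩ := (cdata gens).val_mul v0 v0
  obtain ⟨v2, e2⟩ := (cdata gens).val_mul v1 v1
  obtain ⟨v3, e3⟩ := (cdata gens).val_mul v2 v2
  obtain ⟨v4, e4⟩ := (cdata gens).val_mul v3 v3
  rw [h, gens.UF.val_perm] at e4
  rw [e3, e2, e1] at e4
  have one : gens.UF.ph pone = 1 := gens.UF.ph_pone
  rw [one] at e4
  simp only [← pow_two, ← pow_mul] at e4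
  exact e4.symm

end CfsgLib.J4Classes.Two
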