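import Cfsg.Agent.J4Classes.TwoData
import Cfsg.Agent.Coset.J4.OutEA
import Cfsg.Agent.Coset.J4.OutBase
import Cfsg.Agent.Coset.J4.Instance

/-!
Every element of two-power order of the presented group of the fourth Janko type is conjugate to one
of twenty-seven elements of `2^11:M24`.
-/

set_option autoImplicit false
set_option maxRecDepth 100000
set_option Elab.async false

namespace CfsgLib.J4Classes.Two

open CfsgLib.Coset CfsgLib.Coset.J4
open CfsgLib.Coset.J4.Inst (gens)

/-- The element of the presented group given by a pair. -/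
noncomputable def ev2 (e : Nat × Nat) : Cfsg.Spor.J4 := gens.UF.val ctxJ e

section Kernel

/-- A representative as a packed permutation. -/
noncomputable def repP2 (j : Nat) : Nat := wordP (repW.getD j [])

/-- A class of pairs. -/
noncomputable def clsE (a : Nat) : Nat × Nat :=
  (repP2 (clsL.getD a (0, 0)).1, (clsL.getD a (0, 0)).2)

/-- The step at an element of the Sylow subgroup. -/
noncomputable def witAt (i : Nat) : Bool :=
  cond (Nat.ble (Nat.add (field (witT.get i) 0) 1) 4)
    (cond (Nat.ble (Nat.add (field (witT.get i) 1) 1) 1024)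
      (cond (Nat.ble (Nat.add (field (witT.get (field (witT.get i) 1)) 2) 1) (field (witT.get i) 2))
        (Nat.beq (pmul (OutEA.el i) (OutEA.genP.getD (field (witT.get i) 0) 0))
          (pmul (OutEA.genP.getD (field (witT.get i) 0) 0) (OutEA.el (field (witT.get i) 1))))
        false) false)
    (cond (Nat.ble (Nat.add (field (witT.get i) 0) 1) (Nat.add 4 fusW.length))
      (cond (Nat.ble (Nat.add (field (witT.get i) 1) 1) 7)
        (Nat.beq (pmul (OutEA.el i) (wordP (fusW.getD (Nat.sub (field (witT.get i) 0) 4) [])))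
          (pmul (wordP (fusW.getD (Nat.sub (field (witT.get i) 0) 4) []))
            (repP2 (field (witT.get i) 1))))
        false) false)

/-- The step at a vector over a representative. -/
noncomputable def orbAt (j : Nat) (T : Tr Nat) (M : List Nat) (c : Nat) : Bool :=
  cond (Nat.beq (field (T.get c) 0) 255)
    (cond (Nat.ble (Nat.add (field (T.get c) 1) 1) 27)
      (cond (Nat.beq (clsL.getD (field (T.get c) 1) (0, 0)).1 j)
        (Nat.beq (clsL.getD (field (T.get c) 1) (0, 0)).2 c) false) false)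
    (cond (Nat.ble (Nat.add (field (T.get c) 1) 1) 2048)
      (cond (Nat.ble (Nat.add (field (T.get (field (T.get c) 1)) 2) 1) (field (T.get c) 2))
        (cond (Nat.ble (Nat.add (field (T.get c) 0) 1) 11)
          (Nat.beq (Nat.xor (Nat.xor (field (T.get c) 1) (Nat.pow 2 (field (T.get c) 0)))
            (OutJ.apM M (Nat.pow 2 (field (T.get c) 0)))) c)
          (cond (Nat.ble 16 (field (T.get c) 0))
            (cond (Nat.ble (Nat.add (field (T.get c) 0) 1) (Nat.add 16 21))
              (cond (Nat.beq (cenO.getD (Nat.sub (field (T.get c) 0) 16) 7) j)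
                (Nat.beq (OutJ.apM (cenM.getD (Nat.sub (field (T.get c) 0) 16) []) (field (T.get c) 1)) c)
                false) false) false)) false) false)

end Kernel

theorem words_lt : (∀ w ∈ fusW, ∀ l ∈ w, l < 3) ∧ (∀ w ∈ repW, ∀ l ∈ w, l < 3) ∧
    (∀ w ∈ cenW, ∀ l ∈ w, l < 3) := by decide +kernel

theorem val_getD {L : List (List Nat)} (hL : ∀ w ∈ L, ∀ l ∈ w, l < 3) (k : Nat) :
    gens.UF.Val (wordP (L.getD k [])) := by
  rcases lt_or_ge k L.length with h | h
  · rw [List.getD_eq_getElem _ _ h]; exact (val_word gens _ (hL _ (List.getElem_mem h))).1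
  · rw [List.getD_eq_default _ _ h]; exact gens.UF.val_pone

theorem val_rep (j : Nat) : gens.UF.Val (repP2 j) := val_getD words_lt.2.1 j

theorem val_genP {k : Nat} (hk : k < 4) : gens.UF.Val (OutEA.genP.getD k 0) :=
  ⟨⟨OutEA.genPerm k, OutEA.genPerm_mem k⟩, OutEA.repP_genP hk⟩

theorem val_el {i : Nat} (hi : i < 1024) : gens.UF.Val (OutEA.el i) := by
  obtain ⟨p, hp, hr⟩ := OutEA.el_rep i hi
  exact ⟨⟨p, OutEA.syl_le hp⟩, hr⟩

theorem witOK : allBelow 10 1024 witAt = true := by decide +kernel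

theorem to_rep : ∀ i < 1024, ∃ j < 7, ∃ g : Nat, gens.UF.Val g ∧
    gens.UF.ph (OutEA.el i) * gens.UF.ph g = gens.UF.ph g * gens.UF.ph (repP2 j) := by
  intro i
  induction hr : field (witT.get i) 2 using Nat.strong_induction_on generalizing i with | _ r ih => ?_
  intro hi
  have h := of_allBelow witOK i hi
  unfold witAt at h
  cases hb : Nat.ble (Nat.add (field (witT.get i) 0) 1) 4 with
  | true =>
    rw [hb, cond_true] at h
    simp only [cond_false_eq_true, Nat.ble_eq] at h
    obtain ⟨hp, hlt, he⟩ := h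
    obtain ⟨j, hj, g, hg, e⟩ := ih _ (hr ▸ hlt) _ rfl hp
    have vs := val_genP (Nat.ble_eq.mp hb)
    have e' := congrArg gens.UF.ph (Nat.eq_of_beq_eq_true he)
    rw [gens.UF.ph_pmul (val_el hi) vs, gens.UF.ph_pmul vs (val_el hp)] at e'
    refine ⟨j, hj, _, gens.UF.val_pmul vs hg, ?_⟩
    rw [gens.UF.ph_pmul vs hg, ← mul_assoc, e', mul_assoc, e, mul_assoc]
  | false =>
    rw [hb, cond_false] at h
    simp only [cond_false_eq_true, Nat.ble_eq] at h
    obtain ⟨-, hj, he⟩ := h
    have vw := val_getD words_lt.1 (Nat.sub (field (witT.get i) 0) 4)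
    have e' := congrArg gens.UF.ph (Nat.eq_of_beq_eq_true he)
    rw [gens.UF.ph_pmul (val_el hi) vw, gens.UF.ph_pmul vw (val_rep _)] at e'
    exact ⟨_, hj, _, vw, e'⟩

theorem isConj_of_mul {G : Type*} [Group G] {a b h : G} (e : a * h = h * b) : IsConj a b :=
  isConj_iff.2 ⟨h⁻¹, by rw [inv_inv, mul_assoc, e, inv_mul_cancel_left]⟩

theorem ev2_mul {e f : Nat × Nat} (he : gens.UF.Val e.1) (hf : gens.UF.Val f.1) :
    ev2 (ctxJ.mul e f) = ev2 e * ev2 f := ((cdata gens).val_mul he hf).2

theorem ev2_eq (a c : Nat) : ev2 (a, c) = gens.UF.ph a * OutJ.eV gens c := rfl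

theorem conj_step {a : Nat} (ha : gens.UF.Val a) (c : Nat) :
    OutJ.eV gens c * gens.UF.ph a = gens.UF.ph a * OutJ.eV gens (OutJ.act a c) := by
  obtain ⟨p, hp⟩ := ha
  rw [gens.UF.ph_eq hp]
  exact OutJ.eV_phi gens hp c

/-- Conjugating by a permutation commuting with the permutation part. -/
theorem conj_perm {a b g : Nat} (hg : gens.UF.Val g)
    (e : gens.UF.ph a * gens.UF.ph g = gens.UF.ph g * gens.UF.ph b) (c : Nat) :
    IsConj (ev2 (a, c)) (ev2 (b, OutJ.act g c)) := by
  refine isConj_of_mul (h := gens.UF.ph g) ?_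
  rw [ev2_eq, ev2_eq, mul_assoc, conj_step hg, ← mul_assoc, e, mul_assoc]

/-- Conjugating by a vector. -/
theorem conj_vec {a : Nat} (ha : gens.UF.Val a) (p d : Nat) :
    IsConj (ev2 (a, p)) (ev2 (a, Nat.xor (Nat.xor p d) (OutJ.act a d))) := by
  refine isConj_of_mul (h := OutJ.eV gens d) ?_
  rw [ev2_eq, ev2_eq, ← mul_assoc (OutJ.eV gens d), conj_step ha d, mul_assoc, mul_assoc,
    ← OutJ.eV_xor, ← OutJ.eV_xor]
  congr 2
  show p ^^^ d = OutJ.act a d ^^^ (p ^^^ d ^^^ OutJ.act a d)
  rw [Nat.xor_comm (p ^^^ d) (OutJ.act a d), ← Nat.xor_assoc, Nat.xor_self, Nat.zero_xor]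

theorem cen_ok : ∀ k < 21, Nat.beq (pmul (repP2 (cenO.getD k 7)) (wordP (cenW.getD k [])))
    (pmul (wordP (cenW.getD k [])) (repP2 (cenO.getD k 7))) = true := by decide +kernel

theorem cenM_ok : ∀ k < 21, OutJ.rowsM (wordP (cenW.getD k [])) = cenM.getD k [] := by decide +kernel

theorem repM_ok : ∀ j < 7, OutJ.rowsM (repP2 j) = repM.getD j [] := by decide +kernel

theorem orb0 : allBelow 11 2048 (orbAt 0 orbT0 (repM.getD 0 [])) = true := by decide +kernel
theorem orb1 : allBelow 11 2048 (orbAt 1 orbT1 (repM.getD 1 [])) = true := by decide +kernel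
theorem orb2 : allBelow 11 2048 (orbAt 2 orbT2 (repM.getD 2 [])) = true := by decide +kernel
theorem orb3 : allBelow 11 2048 (orbAt 3 orbT3 (repM.getD 3 [])) = true := by decide +kernel
theorem orb4 : allBelow 11 2048 (orbAt 4 orbT4 (repM.getD 4 [])) = true := by decide +kernel
theorem orb5 : allBelow 11 2048 (orbAt 5 orbT5 (repM.getD 5 [])) = true := by decide +kernel
theorem orb6 : allBelow 11 2048 (orbAt 6 orbT6 (repM.getD 6 [])) = true := by decide +kernel

theorem orb_ok {j : Nat} (hj : j < 7) :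
    allBelow 11 2048 (orbAt j (orbTs.getD j orbT0) (repM.getD j [])) = true := by
  interval_cases j
  exacts [orb0, orb1, orb2, orb3, orb4, orb5, orb6]

/-- Every pair over a representative is conjugate to one of the classes of pairs. -/
theorem to_cls {j : Nat} (hj : j < 7) :
    ∀ c < 2048, ∃ a < 27, IsConj (ev2 (repP2 j, c)) (ev2 (clsE a)) := by
  intro c
  induction hr : field ((orbTs.getD j orbT0).get c) 2 using Nat.strong_induction_on
    generalizing c with | _ r ih => ?_
  intro hc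
  have h := of_allBelow (orb_ok hj) c hc
  unfold orbAt at h
  generalize orbTs.getD j orbT0 = T at h ih hr
  cases hb : Nat.beq (field (T.get c) 0) 255 with
  | true =>
    rw [hb, cond_true] at h
    simp only [cond_false_eq_true] at h
    obtain ⟨h1, h2, h3⟩ := h
    refine ⟨_, Nat.ble_eq.mp h1, ?_⟩
    rw [clsE, Nat.eq_of_beq_eq_true h2, Nat.eq_of_beq_eq_true h3]
  | false =>
    rw [hb, cond_false] at h
    simp only [cond_false_eq_true] at h
    obtain ⟨hp, hlt, h⟩ := h
    obtain ⟨a, ha, hconj⟩ := ih _ (hr ▸ Nat.ble_eq.mp hlt) _ rfl (Nat.ble_eq.mp hp)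
    refine ⟨a, ha, IsConj.trans (IsConj.symm ?_) hconj⟩
    cases hs : Nat.ble (Nat.add (field (T.get c) 0) 1) 11 with
    | true =>
      rw [hs, cond_true] at h
      have e := Nat.eq_of_beq_eq_true h
      rw [← OutJ.apM_of_rows (repM_ok j hj)] at e
      have := conj_vec (val_rep j) (field (T.get c) 1) (Nat.pow 2 (field (T.get c) 0))
      rwa [e] at this
    | false =>
      rw [hs, cond_false] at h
      simp only [cond_false_eq_true] at h
      obtain ⟨-, hk, ho, he⟩ := h
      set k := Nat.sub (field (T.get c) 0) 16 with hkdef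
      have hk21 : k < 21 := by
        have := Nat.ble_eq.mp hk
        change field (T.get c) 0 + 1 ≤ 16 + 21 at this
        show field (T.get c) 0 - 16 < 21
        omega
      have vw := val_getD words_lt.2.2 k
      have e := Nat.eq_of_beq_eq_true he
      rw [← OutJ.apM_of_rows (cenM_ok k hk21)] at e
      have hcm := Nat.eq_of_beq_eq_true (cen_ok k hk21)
      rw [Nat.eq_of_beq_eq_true ho] at hcm
      have hcm' := congrArg gens.UF.ph hcm
      rw [gens.UF.ph_pmul (val_rep j) vw, gens.UF.ph_pmul vw (val_rep j)] at hcm'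
      have := conj_perm vw hcm' (field (T.get c) 1)
      rwa [e] at this

theorem phi_pow_pair (p : M24m) (c : Nat) : ∀ n : ℕ,
    ∃ d, (gens.φ p * OutJ.eV gens c) ^ n = gens.φ (p ^ n) * OutJ.eV gens d := by
  intro n
  induction n with
  | zero => exact ⟨0, by rw [pow_zero, pow_zero, map_one, OutJ.eV_zero, one_mul]⟩
  | succ n ih =>
    obtain ⟨d, hd⟩ := ih
    obtain ⟨a, ha⟩ := exists_repP (p : Equiv.Perm (Fin 24))
    exact ⟨_, by rw [pow_succ, hd, OutJ.pair_mul gens ha, ← pow_succ]⟩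

theorem std : OutJ.Std gens := ⟨Inst.u_ne_one, hirrJ⟩

/-- A two-element of the model is conjugate into the listed Sylow subgroup. -/
theorem conj_into_syl {p : M24m} {k : ℕ} (hp : p ^ 2 ^ k = 1) :
    ∃ q : M24m, ((q⁻¹ * p * q : M24m) : Equiv.Perm (Fin 24)) ∈ OutEA.syl := by
  have : Fact (Nat.Prime 2) := ⟨Nat.prime_two⟩
  have hP : Nat.card ↥(OutEA.syl.subgroupOf M24m) = 2 ^ (Nat.card M24m).factorization 2 := by
    rw [Nat.card_congr (Subgroup.subgroupOfEquivOfLe OutEA.syl_le).toEquiv, OutEA.card_syl, card_M24m,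
      show (244823040 : ℕ) = 2 ^ 10 * 239085 by norm_num,
      Nat.factorization_mul (by norm_num) (by norm_num), Nat.Prime.factorization_pow Nat.prime_two]
    simp [Nat.factorization_eq_zero_of_not_dvd (show ¬ 2 ∣ 239085 by norm_num)]
  let P : Sylow 2 M24m := Sylow.ofCard (OutEA.syl.subgroupOf M24m) hP
  obtain ⟨i, -, hi⟩ := (Nat.dvd_prime_pow Nat.prime_two).1 (orderOf_dvd_of_pow_eq_one hp)
  obtain ⟨Q, hQ⟩ := (IsPGroup.of_card (p := 2) (n := i)
    (by rw [Nat.card_zpowers, hi] : Nat.card (Subgroup.zpowers p) = 2 ^ i)).exists_le_sylow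
  obtain ⟨g, hg⟩ := MulAction.exists_smul_eq M24m Q P
  refine ⟨g⁻¹, ?_⟩
  have hm : MulAut.conj g p ∈ (P : Subgroup M24m) := by
    rw [← hg]
    exact Subgroup.smul_mem_pointwise_smul _ (MulAut.conj g) _ (hQ (Subgroup.mem_zpowers p))
  rw [inv_inv]
  exact hm

/-- Two-elements of `2^11:M24`. -/
theorem hSub_to_cls {g : Cfsg.Spor.J4} (hg : g ∈ (udata gens).hSub) {k : ℕ} (hk : g ^ 2 ^ k = 1) :
    ∃ a < 27, IsConj g (ev2 (clsE a)) := by
  obtain ⟨p, c, -, rfl⟩ := (OutJ.mem_H gens).1 hg
  obtain ⟨d, hd⟩ := phi_pow_pair p c (2 ^ k)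
  rw [hk, ← OutJ.eV_mod] at hd
  have hp : p ^ 2 ^ k = 1 :=
    ((std.pair_inj (p := 1) (q := p ^ 2 ^ k) (c := 0) (d := d % 2048) (by norm_num)
      (Nat.mod_lt _ (by norm_num))
      (by rw [map_one, OutJ.eV_zero, one_mul, ← hd])).1).symm
  obtain ⟨q, hq⟩ := conj_into_syl hp
  obtain ⟨a, ha⟩ := exists_repP (q : Equiv.Perm (Fin 24))
  obtain ⟨i, hi, hrep⟩ := OutEA.syl_listed hq
  obtain ⟨j, hj, h, hh, e⟩ := to_rep i hi
  have hel : gens.UF.ph (OutEA.el i) = gens.φ (q⁻¹ * p * q) := gens.UF.ph_eq hrep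
  have s1 : IsConj (gens.φ p * OutJ.eV gens c) (ev2 (OutEA.el i, OutJ.act a c)) := by
    refine isConj_of_mul (h := gens.φ q) ?_
    rw [ev2_eq, hel, mul_assoc, OutJ.eV_phi gens ha, map_mul, map_mul, map_inv]
    group
  obtain ⟨b, hb, s3⟩ := to_cls hj (OutJ.act h (OutJ.act a c)) (OutEA.act_lt _ _)
  exact ⟨b, hb, s1.trans ((conj_perm hh e _).trans s3)⟩

theorem finite_J4' : Finite Cfsg.Spor.J4 := Inst.dc.finite_G

/-- Every two-element is conjugate to one of twenty-seven. -/
theorem exists_cls {g : Cfsg.Spor.J4} {k : ℕ} (hk : orderOf g = 2 ^ k) :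
    ∃ a < 27, IsConj g (ev2 (clsE a)) := by
  have := finite_J4'
  have : Fact (Nat.Prime 2) := ⟨Nat.prime_two⟩
  set H := (udata gens).hSub with hH
  let P : Sylow 2 ↥H := default
  have hidx : H.index = 173067389 := Inst.dc.index_eq
  have hP : Nat.card ((P : Subgroup ↥H).map H.subtype) = 2 ^ (Nat.card Cfsg.Spor.J4).factorization 2 := by
    rw [Subgroup.card_map_of_injective H.subtype_injective, P.card_eq_multiplicity,
      ← H.card_mul_index, Nat.factorization_mul Nat.card_pos.ne' (by rw [hidx]; norm_num), hidx,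
      Finsupp.add_apply,
      Nat.factorization_eq_zero_of_not_dvd (show ¬ 2 ∣ 173067389 by norm_num), add_zero]
  let S : Sylow 2 Cfsg.Spor.J4 := Sylow.ofCard ((P : Subgroup ↥H).map H.subtype) hP
  obtain ⟨Q, hQ⟩ := (IsPGroup.of_card (p := 2) (n := k)
    (by rw [Nat.card_zpowers, hk] : Nat.card (Subgroup.zpowers g) = 2 ^ k)).exists_le_sylow
  obtain ⟨x, hx⟩ := MulAction.exists_smul_eq Cfsg.Spor.J4 Q S
  have hm : MulAut.conj x g ∈ (S : Subgroup Cfsg.Spor.J4) := by
    rw [← hx]
    exact Subgroup.smul_mem_pointwise_smul _ (MulAut.conj x) _ (hQ (Subgroup.mem_zpowers g))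
  obtain ⟨y, -, hy⟩ := hm
  have hmem : MulAut.conj x g ∈ H := hy ▸ y.2
  obtain ⟨a, ha, h⟩ := hSub_to_cls hmem (k := k) (by
    rw [← map_pow, ← hk, pow_orderOf_eq_one, map_one])
  exact ⟨a, ha, (isConj_iff.2 ⟨x, rfl⟩).trans h⟩

end CfsgLib.J4Classes.Two
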