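import Cfsg.Agent.J4Classes.TwoRankDef

/-!
The rank certificates hold.
-/

set_option autoImplicit false
set_option maxRecDepth 100000
set_option Elab.async false

namespace CfsgLib.J4Classes.Two

theorem row5 : rowOK 5 selTab5 cert15 cert16 cert17 = true := by decide +kernel

theorem row6 : rowOK 6 selTab6 cert18 cert19 cert20 = true := by decide +kernel

theorem row7 : rowOK 7 selTab7 cert21 cert22 cert23 = true := by decide +kernel

theorem row8 : rowOK 8 selTab8 cert24 cert25 cert26 = true := by decide +kernel

theorem row9 : rowOK 9 selTab9 cert27 cert28 cert29 = true := by decide +kernel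

end CfsgLib.J4Classes.Two
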