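import Cfsg.Agent.J4Classes.TwoRankA
import Cfsg.Agent.J4Classes.TwoRankB
import Cfsg.Agent.J4Classes.TwoFusion
import Cfsg.Agent.Coset.J4.MultMain
import Cfsg.Agent.Coset.Th.SepBase

/-!
Ranks of powers of the ten chosen elements shifted by one in the representation of degree 112
separate their classes.
-/

set_option autoImplicit false
set_option maxRecDepth 100000
set_option Elab.async false

namespace CfsgLib.J4Classes.Two

open CfsgLib.Coset CfsgLib.Coset.J4 CfsgLib.Coset.J4.Mat CfsgLib.Coset.J4Cent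
open CfsgLib.Coset.J4.Inst (gens)

theorem rowVec_xor (n a b : Nat) : rowVec n (a ^^^ b) = rowVec n a + rowVec n b := by
  funext j
  show bz _ = bz _ + bz _
  rw [Nat.testBit_xor, bz_xor]

theorem rowVec_opK {T : List Nat} (hlen : T.length = 28) (hT : tblOK T = true) :
    ∀ (k v : Nat), rowVec 112 (opK T k v) =
      Matrix.vecMul (rowVec 112 v) ((matOf 112 (rowsOf T) + 1) ^ k) := by
  intro k
  induction k with
  | zero => intro v; rw [pow_zero, Matrix.vecMul_one]; rfl
  | succ k ih =>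
    intro v
    have e : opK T (k + 1) v = opK T k (vt T v ^^^ v) := by
      show Nat.rec (motive := fun _ => Nat) (opK T k 0) (fun n _ => opK T k (n + 1)) (vt T v ^^^ v) = _
      cases vt T v ^^^ v <;> rfl
    rw [e, ih, rowVec_xor, vt_eq hT, rowVec_vm (by rw [rowsOf_length, hlen]), pow_succ',
      ← Matrix.vecMul_vecMul, Matrix.vecMul_add, Matrix.vecMul_one]

theorem rank_of_cert {T : List Nat} (hlen : T.length = 28) (hT : tblOK T = true) {k r : Nat}
    {C : RankCert} (h : certOK T k r C = true) :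
    ((matOf 112 (rowsOf T) + 1) ^ k).rank = r := by
  unfold certOK at h
  simp only [cond_false_eq_true] at h
  obtain ⟨hr, hco, hz⟩ := h
  obtain rfl := Nat.eq_of_beq_eq_true hr
  let X : Matrix (Fin 112) (Fin C.zs.length) (ZMod 2) :=
    Matrix.of fun i j => bz ((C.co.getD i 0).testBit j)
  let Y : Matrix (Fin C.zs.length) (Fin 112) (ZMod 2) :=
    Matrix.of fun j l => bz ((C.zs.getD j 0).testBit l)
  let U : Matrix (Fin C.zs.length) (Fin 112) (ZMod 2) := Matrix.of fun j => rowVec 112 (C.us.getD j 0)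
  let V : Matrix (Fin 112) (Fin C.zs.length) (ZMod 2) :=
    Matrix.of fun l i => if (l : Nat) = C.piv.getD i 0 then 1 else 0
  have hrow : ∀ j : Fin C.zs.length, opK T k (C.us.getD j 0) = C.zs.getD j 0 := fun j => by
    have := of_allBelow hz j j.2
    simp only [cond_false_eq_true] at this
    exact Nat.eq_of_beq_eq_true this.1
  have hX : X * Y = (matOf 112 (rowsOf T) + 1) ^ k := by
    refine Matrix.ext fun i l => ?_
    have e := rowVec_opK hlen hT k (2 ^ (i : Nat))
    rw [show opK T k (2 ^ (i : Nat)) = vm C.zs (C.co.getD i 0) from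
      Nat.eq_of_beq_eq_true (of_allBelow hco i i.2), rowVec_pow, Matrix.single_one_vecMul] at e
    have e2 : bz ((vm C.zs (C.co.getD i 0)).testBit l) = ((matOf 112 (rowsOf T) + 1) ^ k) i l :=
      congrFun e l
    rw [← e2, bz_vm, Matrix.mul_apply]
    rfl
  have hUY : U * (matOf 112 (rowsOf T) + 1) ^ k = Y := by
    refine Matrix.ext fun j l => ?_
    have e := congrFun (rowVec_opK hlen hT k (C.us.getD j 0)) l
    rw [hrow j] at e
    rw [Matrix.mul_apply]
    exact e.symm
  refine Th.rank_eq_of_cert X Y U V hX ?_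
  rw [hUY]
  refine Matrix.ext fun j i => ?_
  have hj := of_allBelow hz j j.2
  simp only [cond_false_eq_true] at hj
  have hi := of_allBelow hz i i.2
  simp only [cond_false_eq_true] at hi
  have hp : C.piv.getD i 0 < 112 := Nat.ble_eq.mp hi.2.1
  have hb := of_allBelow hj.2.2 i i.2
  rw [Matrix.mul_apply, Finset.sum_eq_single (⟨C.piv.getD i 0, hp⟩ : Fin 112)
    (fun x _ hx => by
      show _ * (if (x : Nat) = C.piv.getD i 0 then (1 : ZMod 2) else 0) = 0
      rw [if_neg fun e => hx (Fin.ext e), mul_zero])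
    (fun hx => absurd (Finset.mem_univ _) hx)]
  show bz ((C.zs.getD j 0).testBit (C.piv.getD i 0)) *
    (if C.piv.getD i 0 = C.piv.getD i 0 then (1 : ZMod 2) else 0) = _
  rw [if_pos rfl, mul_one, Matrix.one_apply]
  by_cases hij : i = j
  · subst hij
    rw [Nat.beq_refl, cond_true] at hb
    rw [hb, if_pos rfl]
    rfl
  · have hne : Nat.beq i j = false := by
      rw [← Bool.not_eq_true]
      exact fun e => hij (Fin.ext (Nat.eq_of_beq_eq_true e))
    rw [hne, cond_false] at hb
    rw [if_neg (Ne.symm hij)]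
    cases hb' : (C.zs.getD j 0).testBit (C.piv.getD i 0) with
    | true => rw [hb'] at hb; exact Bool.noConfusion hb
    | false => rfl

theorem tab_of_word {T w : List Nat} (h : selTabOK T w = true) :
    T.length = 28 ∧ tblOK T = true ∧ rho (W w) = matOf 112 (rowsOf T) := by
  unfold selTabOK at h
  simp only [cond_false_eq_true] at h
  obtain ⟨hT, hw, he⟩ := h
  obtain ⟨h1, h2⟩ := tabOK_spec hT
  refine ⟨h1, h2, Matrix.ext fun i j => ?_⟩
  have e := Nat.eq_of_beq_eq_true (of_allBelow he i i.2)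
  have h3 := vwt_vec hw e.symm
  rw [show Nat.pow 2 (i : Nat) = 2 ^ (i : Nat) from rfl, vt_eq h2,
    rowVec_vm (by rw [rowsOf_length, h1]), rowVec_pow, Matrix.single_one_vecMul,
    Matrix.single_one_vecMul] at h3
  exact congrFun h3 j

theorem hinj : Function.Injective repJ4 :=
  haveI := Inst.simple
  MultJ.repJ4_injective

theorem sel_eq_W (n : Nat) : sel n = W (selW n) := by
  unfold sel ev2 clsE selW
  generalize clsL.getD (selL.getD n 0) (0, 0) = e
  have hl : ∀ l ∈ repW.getD e.1 [], l < 3 := by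
    rcases lt_or_ge e.1 repW.length with h | h
    · rw [List.getD_eq_getElem _ _ h]; exact words_lt.2.1 _ (List.getElem_mem h)
    · rw [List.getD_eq_default _ _ h]; simp
  show gens.UF.ph (repP2 e.1) * gens.UF.E ctxJ.B e.2 = _
  rw [W_append, repP2, ph_wordP hl, E_word hinj]

/-- The rank of a power of the shifted matrix. -/
noncomputable def rk (k : Nat) (g : Cfsg.Spor.J4) : Nat := ((rho g + 1) ^ k).rank

theorem rk_conj {a b : Cfsg.Spor.J4} (h : IsConj a b) (k : Nat) : rk k a = rk k b := by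
  obtain ⟨c, rfl⟩ := isConj_iff.1 h
  have h1 : rho c * rho c⁻¹ = 1 := by rw [← map_mul, mul_inv_cancel, map_one]
  have h2 : rho c⁻¹ * rho c = 1 := by rw [← map_mul, inv_mul_cancel, map_one]
  have e : rho (c * a * c⁻¹) + 1 = rho c * (rho a + 1) * rho c⁻¹ := by
    rw [map_mul, map_mul, mul_add, add_mul, mul_one, h1]
  have ep : ∀ k : Nat, (rho c * (rho a + 1) * rho c⁻¹) ^ k = rho c * (rho a + 1) ^ k * rho c⁻¹ := by
    intro k
    induction k with
    | zero => rw [pow_zero, pow_zero, mul_one, h1]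
    | succ k ih =>
      rw [pow_succ, ih, pow_succ]
      simp only [mul_assoc]
      rw [← mul_assoc (rho c⁻¹) (rho c), h2, one_mul]
  show _ = ((rho (c * a * c⁻¹) + 1) ^ k).rank
  rw [e, ep, Th.rank_conj h1]
  rfl

theorem row_ok {n : Nat} (hn : n < 10) : ∃ T C1 C3 C5, rowOK n T C1 C3 C5 = true := by
  interval_cases n
  exacts [⟨_, _, _, _, row0⟩, ⟨_, _, _, _, row1⟩, ⟨_, _, _, _, row2⟩, ⟨_, _, _, _, row3⟩, ⟨_, _, _, _, row4⟩, ⟨_, _, _, _, row5⟩, ⟨_, _, _, _, row6⟩, ⟨_, _, _, _, row7⟩, ⟨_, _, _, _, row8⟩, ⟨_, _, _, _, row9⟩]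

theorem rk_sel {n : Nat} (hn : n < 10) : rk 1 (sel n) = rankL.getD (3 * n) 0 ∧
    rk 3 (sel n) = rankL.getD (3 * n + 1) 0 ∧ rk 5 (sel n) = rankL.getD (3 * n + 2) 0 := by
  obtain ⟨T, C1, C3, C5, h⟩ := row_ok hn
  unfold rowOK at h
  simp only [cond_false_eq_true] at h
  obtain ⟨ht, h1, h3, h5⟩ := h
  obtain ⟨hl, hT, hr⟩ := tab_of_word ht
  unfold rk
  rw [sel_eq_W, hr]
  exact ⟨rank_of_cert hl hT h1, rank_of_cert hl hT h3, rank_of_cert hl hT h5⟩

/-- The chosen elements are pairwise not conjugate. -/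
theorem sel_separated {m n : Nat} (hm : m < 10) (hn : n < 10) (h : IsConj (sel m) (sel n)) :
    m = n := by
  have key : ∀ m < 10, ∀ n < 10, rankL.getD (3 * m) 0 = rankL.getD (3 * n) 0 →
      rankL.getD (3 * m + 1) 0 = rankL.getD (3 * n + 1) 0 →
      rankL.getD (3 * m + 2) 0 = rankL.getD (3 * n + 2) 0 → m = n := by decide +kernel
  obtain ⟨a1, a3, a5⟩ := rk_sel hm
  obtain ⟨b1, b3, b5⟩ := rk_sel hn
  exact key m hm n hn (a1.symm.trans ((rk_conj h 1).trans b1)) (a3.symm.trans ((rk_conj h 3).trans b3))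
    (a5.symm.trans ((rk_conj h 5).trans b5))

end CfsgLib.J4Classes.Two
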