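import Cfsg.Agent.J4Classes.TwoRankDef

/-!
The rank certificates hold.
-/

set_option autoImplicit false
set_option maxRecDepth 100000
set_option Elab.async false

namespace CfsgLib.J4Classes.Two

theorem row0 : rowOK 0 selTab0 cert0 cert1 cert2 = true := by decide +kernel

theorem row1 : rowOK 1 selTab1 cert3 cert4 cert5 = true := by decide +kernel

theorem row2 : rowOK 2 selTab2 cert6 cert7 cert8 = true := by decide +kernel

theorem row3 : rowOK 3 selTab3 cert9 cert10 cert11 = true := by decide +kernel

theorem row4 : rowOK 4 selTab4 cert12 cert13 cert14 = true := by decide +kernel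

end CfsgLib.J4Classes.Two
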