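import Cfsg.Agent.J4Classes.TwoData
import Cfsg.Agent.J4Classes.TwoRankData
import Cfsg.Agent.Coset.J4Cent.Bridge

/-!
Checks of rank certificates for ten matrices of degree 112.
-/

set_option autoImplicit false
set_option maxRecDepth 100000
set_option Elab.async false

namespace CfsgLib.J4Classes.Two

open CfsgLib.Coset CfsgLib.Coset.J4 CfsgLib.Coset.J4.Mat CfsgLib.Coset.J4Cent

section Kernel

/-- Apply a matrix shifted by one `k` times. -/
noncomputable def opK (T : List Nat) (k : Nat) : Nat → Nat :=
  Nat.rec (fun v => v)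
    (fun _ ih v => Nat.rec (motive := fun _ => Nat) (ih 0) (fun n _ => ih (Nat.add n 1))
      (Nat.xor (vt T v) v)) k

/-- The word of a class of pairs. -/
noncomputable def selW (n : Nat) : List Nat :=
  repW.getD (clsL.getD (selL.getD n 0) (0, 0)).1 [] ++
    bitsW (clsL.getD (selL.getD n 0) (0, 0)).2

/-- A table is that of a word. -/
noncomputable def selTabOK (T w : List Nat) : Bool :=
  cond (tabOK T) (cond (lettersLT w 32)
    (allBelow 7 112 fun i => Nat.beq (vt T (Nat.pow 2 i)) (vwt CfsgLib.Coset.J4Cent.Dat.tabL (Nat.pow 2 i) w))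
    false) false

/-- The certificate gives the rank. -/
noncomputable def certOK (T : List Nat) (k r : Nat) (C : RankCert) : Bool :=
  cond (Nat.beq C.zs.length r)
    (cond (allBelow 7 112 fun i =>
        Nat.beq (opK T k (Nat.pow 2 i)) (vm C.zs (C.co.getD i 0)))
      (allBelow 7 r fun j => cond (Nat.beq (opK T k (C.us.getD j 0)) (C.zs.getD j 0))
        (cond (Nat.ble (Nat.add (C.piv.getD j 0) 1) 112)
          (allBelow 7 r fun i => cond (Nat.beq i j)
            (Nat.testBit (C.zs.getD j 0) (C.piv.getD i 0))
            (cond (Nat.testBit (C.zs.getD j 0) (C.piv.getD i 0)) false true)) false) false)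
      false) false



/-- The expected ranks of the first, third and fifth powers. -/
def rankL : List Nat := [0, 0, 0, 50, 0, 0, 56, 0, 0, 84, 28, 0, 80, 24, 0, 80, 20, 0, 96, 65, 35, 96, 64, 36, 96, 65, 37, 104, 88, 72]

/-- All checks for one chosen element. -/
noncomputable def rowOK (n : Nat) (T : List Nat) (C1 C3 C5 : RankCert) : Bool :=
  cond (selTabOK T (selW n)) (cond (certOK T 1 (rankL.getD (Nat.mul 3 n) 0) C1)
    (cond (certOK T 3 (rankL.getD (Nat.add (Nat.mul 3 n) 1) 0) C3)
      (certOK T 5 (rankL.getD (Nat.add (Nat.mul 3 n) 2) 0) C5) false) false) false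

end Kernel

end CfsgLib.J4Classes.Two
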